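import Groth.Agent.H25Chow.Geom
import Groth.Agent.H19Grp.FibreLoci
import Groth.Agent.H19Grp.Neutral
import Groth.Agent.H19Grp.HomUnramified

/-!
# Subgroups of finite group schemes over primary and regular extensions
-/

set_option autoImplicit false
set_option linter.style.haveILetI false
set_option linter.unusedSectionVars false
set_option backward.isDefEq.respectTransparency false
set_option synthInstance.maxHeartbeats 200000
universe u

open CategoryTheory CategoryTheory.Limits MonoidalCategory CartesianMonoidalCategory MonObj GrpObj AlgebraicGeometry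
open scoped TensorProduct
open Groth.Agent

noncomputable section

namespace Groth.Agent.H25Chow

variable {k K : Type u} [Field k] [Field K] [Algebra k K]

/-- A finite scheme over a field is affine and discrete. -/
theorem discreteTopology_of_finite (P : Over (Spec (CommRingCat.of k))) [IsFinite P.hom] :
    IsAffine P.left ∧ DiscreteTopology P.left := by
  haveI : IsAffine P.left := isAffine_of_isAffineHom P.hom
  obtain ⟨R, _, _, ⟨e⟩⟩ := exists_iso_specOver P
  haveI : IsIso e.inv.left := inferInstanceAs (IsIso ((Over.forget _).map e.inv))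
  haveI : IsFinite (specOver k R).hom := by rw [← Over.w e.inv]; infer_instance
  have h : (algebraMap k R).Finite := (IsFinite.SpecMap_iff (CommRingCat.ofHom (algebraMap k R))).1 ‹_›
  haveI : Module.Finite k R := RingHom.finite_algebraMap.1 h
  haveI : IsArtinianRing R := isArtinian_of_tower k inferInstance
  haveI : DiscreteTopology (PrimeSpectrum R) := inferInstance
  let φ : P.left ≅ Spec (CommRingCat.of R) := (Over.forget _).mapIso e
  refine ⟨inferInstance, DiscreteTopology.of_continuous_injective (f := φ.hom) φ.hom.continuous ?_⟩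
  exact φ.hom.homeomorph.injective

/-- The residue point of a point of a finite scheme. -/
theorem exists_residue_point (P : Over (Spec (CommRingCat.of k))) [IsFinite P.hom] (Q : P.left) :
    ∃ (L : Type u) (_ : Field L) (_ : Algebra k L) (_ : Module.Finite k L) (x : specOver k L ⟶ P),
      Set.range x.left = {Q} := by
  obtain ⟨-, hd⟩ := discreteTopology_of_finite P
  let L : Type u := P.left.residueField Q
  let a : CommRingCat.of k ⟶ P.left.residueField Q := Spec.preimage (P.left.fromSpecResidueField Q ≫ P.hom)
  letI : Algebra k L := a.hom.toAlgebra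
  have hw : P.left.fromSpecResidueField Q ≫ P.hom = (specOver k L).hom := (Spec.map_preimage _).symm
  let x : specOver k L ⟶ P := Over.homMk (P.left.fromSpecResidueField Q) hw
  haveI : IsClosedImmersion (P.left.fromSpecResidueField Q) := IsClosedImmersion.of_isPreimmersion _ (by
    rw [Scheme.range_fromSpecResidueField]
    exact isClosed_discrete _)
  haveI : IsFinite (Spec.map (CommRingCat.ofHom (algebraMap k L))) := by
    show IsFinite (specOver k L).hom
    rw [← hw]
    infer_instance
  haveI : Module.Finite k L :=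
    RingHom.finite_algebraMap.1 ((IsFinite.SpecMap_iff (CommRingCat.ofHom (algebraMap k L))).1 ‹_›)
  exact ⟨L, inferInstance, inferInstance, inferInstance, x, Scheme.range_fromSpecResidueField _⟩

/-- Over a primary extension a finite scheme keeps its points. -/
theorem eq_of_fst_eq (hK : AbVar.IsPrimaryExt k K) (P : Over (Spec (CommRingCat.of k))) [IsFinite P.hom]
    {z z' : (Red.bc (AbVar.ext k K) P).left}
    (h : pullback.fst P.hom (AbVar.ext k K) z = pullback.fst P.hom (AbVar.ext k K) z') : z = z' := by
  obtain ⟨L, _, _, _, x, hx⟩ := exists_residue_point P (pullback.fst P.hom (AbVar.ext k K) z)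
  haveI := subsingleton_primeSpectrum (L := L) hK
  haveI hsub : Subsingleton (Red.bc (AbVar.ext k K) (specOver k L)).left :=
    ((specBcIso k K L).inv.homeomorph.injective).subsingleton (β := PrimeSpectrum (L ⊗[k] K))
  obtain ⟨t, ht⟩ : pullback.fst P.hom (AbVar.ext k K) z ∈ Set.range x.left := by rw [hx]; rfl
  obtain ⟨o, -, ho⟩ := Scheme.exists_preimage_of_isPullback (H19Grp.isPullback_map (AbVar.ext k K) x) t z ht
  obtain ⟨o', -, ho'⟩ := Scheme.exists_preimage_of_isPullback (H19Grp.isPullback_map (AbVar.ext k K) x) t z'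
    (ht.trans h)
  exact ho.symm.trans ((congrArg _ (hsub.elim o o')).trans ho')

/-- Open and closed subgroups of a finite group scheme descend along a primary extension. -/
theorem exists_clopen_descent (hK : AbVar.IsPrimaryExt k K) {P : Over (Spec (CommRingCat.of k))} [GrpObj P]
    [IsFinite P.hom] {N : Over (Spec (CommRingCat.of K))} [GrpObj N] (j : N ⟶ Red.bc (AbVar.ext k K) P) [IsMonHom j]
    [IsOpenImmersion j.left] [IsClosedImmersion j.left] :
    ∃ (H : Over (Spec (CommRingCat.of k))) (_ : GrpObj H) (i : H ⟶ P), IsMonHom i ∧ IsClosedImmersion i.left ∧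
      (∃ t, t ≫ j = (Over.pullback (AbVar.ext k K)).map i) ∧
      ∃ s, s ≫ (Over.pullback (AbVar.ext k K)).map i = j := by
  let F := Over.pullback (AbVar.ext k K)
  obtain ⟨_, hd⟩ := discreteTopology_of_finite P
  obtain ⟨H, gH, i, hi, hic, ht, hu⟩ := exists_largest_subgroup j
  let p := pullback.fst P.hom (AbVar.ext k K)
  let U : P.left.Opens := ⟨p '' Set.range j.left, isOpen_discrete _⟩
  let T : Over (Spec (CommRingCat.of k)) := Over.mk (U.ι ≫ P.hom)
  let x : T ⟶ P := Over.homMk U.ι rfl
  haveI : IsClosedImmersion U.ι := IsClosedImmersion.of_isPreimmersion _ (by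
    rw [Scheme.Opens.range_ι]
    exact isClosed_discrete _)
  haveI : IsAffine T.left := isAffine_of_isAffineHom U.ι
  haveI : IsOpenImmersion (F.map x).left :=
    MorphismProperty.of_isPullback (P := @IsOpenImmersion) (H19Grp.isPullback_map (AbVar.ext k K) x) (inferInstanceAs (IsOpenImmersion U.ι))
  have hrange : Set.range (F.map x).left = Set.range j.left := by
    ext z
    constructor
    · rintro ⟨o, rfl⟩
      have hmem : p ((F.map x).left o) ∈ p '' Set.range j.left := by
        have hsq : p ((F.map x).left o) = U.ι (pullback.fst T.hom (AbVar.ext k K) o) := by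
          exact (congrArg (fun m : (F.obj T).left ⟶ P.left => m o) (H19Grp.isPullback_map (AbVar.ext k K) x).w).symm
        rw [hsq]
        exact (U.range_ι).subset ⟨_, rfl⟩
      obtain ⟨y, hy, hye⟩ := hmem
      rwa [← eq_of_fst_eq hK P hye]
    · intro hz
      obtain ⟨t, ht⟩ : p z ∈ Set.range U.ι := by rw [Scheme.Opens.range_ι]; exact ⟨z, hz, rfl⟩
      obtain ⟨o, -, ho⟩ := Scheme.exists_preimage_of_isPullback (H19Grp.isPullback_map (AbVar.ext k K) x) t z ht
      exact ⟨o, ho⟩
  obtain ⟨v, hv⟩ := hu T x
    ⟨Over.homMk (IsOpenImmersion.lift j.left (F.map x).left hrange.subset)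
      (by rw [← Over.w j, IsOpenImmersion.lift_fac_assoc, Over.w]),
      Over.OverMorphism.ext (IsOpenImmersion.lift_fac _ _ _)⟩
  let s₀ : N ⟶ Red.bc (AbVar.ext k K) T :=
    Over.homMk (IsOpenImmersion.lift (F.map x).left j.left hrange.symm.subset)
      (by rw [← Over.w (F.map x), IsOpenImmersion.lift_fac_assoc, Over.w])
  have hs₀ : s₀ ≫ F.map x = j := Over.OverMorphism.ext (IsOpenImmersion.lift_fac _ _ _)
  exact ⟨H, gH, i, hi, hic, ht, s₀ ≫ F.map v, by rw [Category.assoc, ← F.map_comp, hv, hs₀]⟩

/-- Over a regular extension a nontrivial finite subgroup of a base change contains a descended one. -/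
theorem exists_regular_descent [GeometricallyIntegral (AbVar.ext k K)] {P : Over (Spec (CommRingCat.of k))} [GrpObj P]
    [IsFinite P.hom] {N : Over (Spec (CommRingCat.of K))} [GrpObj N] (j : N ⟶ Red.bc (AbVar.ext k K) P) [IsMonHom j]
    [IsClosedImmersion j.left] :
    ∃ (H : Over (Spec (CommRingCat.of k))) (_ : GrpObj H) (i : H ⟶ P), IsMonHom i ∧ IsClosedImmersion i.left ∧
      (∃ t, t ≫ j = (Over.pullback (AbVar.ext k K)).map i) ∧
      (i = 1 → Set.range j.left ⊆ {η[Red.bc (AbVar.ext k K) P].left (IsLocalRing.closedPoint K)}) := by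
  let F := Over.pullback (AbVar.ext k K)
  have hK : AbVar.IsPrimaryExt k K := isPrimaryExt_of_regular
  obtain ⟨haff, hd⟩ := discreteTopology_of_finite P
  obtain ⟨H, gH, i, hi, hic, ht, hu⟩ := exists_largest_subgroup j
  refine ⟨H, gH, i, hi, hic, ht, fun hi1 => ?_⟩
  intro z hz
  refine Set.mem_singleton_iff.2 (eq_of_fst_eq hK P ?_)
  let p := pullback.fst P.hom (AbVar.ext k K)
  obtain ⟨L, _, _, _, x, hx⟩ := exists_residue_point P (p z)
  letI : Field (L ⊗[k] K) := (isField_tensor L).toField
  let T := Red.bc (AbVar.ext k K) (specOver k L)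
  haveI : IsReduced T.left :=
    haveI : IsReduced (Spec (CommRingCat.of (L ⊗[k] K))) := inferInstance
    isReduced_of_isOpenImmersion (specBcIso k K L).inv
  have hsub : Set.range (F.map x).left ⊆ Set.range j.left := by
    rintro _ ⟨o, rfl⟩
    have h1 : p ((F.map x).left o) ∈ Set.range x.left := by
      refine ⟨pullback.fst (specOver k L).hom (AbVar.ext k K) o, ?_⟩
      exact congrArg (fun m : T.left ⟶ P.left => m o) (H19Grp.isPullback_map (AbVar.ext k K) x).w
    rw [hx, Set.mem_singleton_iff] at h1
    rwa [eq_of_fst_eq hK P h1]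
  -- the closed subscheme pulled back to the reduced point is everything
  let q : pullback (F.map x).left j.left ⟶ T.left := pullback.fst _ _
  haveI : IsClosedImmersion q := MorphismProperty.pullback_fst _ _ inferInstance
  haveI : Surjective q := ⟨fun o => by
    obtain ⟨n, hn⟩ := hsub ⟨o, rfl⟩
    obtain ⟨w, hw, -⟩ := Scheme.Pullback.exists_preimage_pullback o n hn.symm
    exact ⟨w, hw⟩⟩
  haveI : IsIso q := isIso_of_isClosedImmersion_of_surjective q
  have htx : (inv q ≫ pullback.snd _ _) ≫ j.left = (F.map x).left := by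
    rw [Category.assoc, ← pullback.condition, IsIso.inv_hom_id_assoc]
  haveI : IsAffine (specOver k L).left := inferInstanceAs (IsAffine (Spec (CommRingCat.of L)))
  obtain ⟨v, hv⟩ := hu (specOver k L) x ⟨Over.homMk (inv q ≫ pullback.snd _ _)
    (by rw [← Over.w j, ← Category.assoc, htx, Over.w]), Over.OverMorphism.ext htx⟩
  have hx1 : x = 1 := by rw [← hv, hi1, MonObj.comp_one]
  obtain ⟨o, ho⟩ : p z ∈ Set.range x.left := by rw [hx]; rfl
  rw [H19Grp.fst_one_apply]
  show p z = _
  rw [← ho, hx1, show (1 : specOver k L ⟶ P).left = (specOver k L).hom ≫ η[P].left from H19Grp.one_left _]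
  exact congrArg η[P].left (Subsingleton.elim (α := PrimeSpectrum k) _ _)

end Groth.Agent.H25Chow
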