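import Groth.Agent.H25Chow.Comp
import Groth.Agent.H19Grp.HomFlat
import Groth.Agent.H19Grp.Quotient
import Mathlib.Data.DFinsupp.WellFounded

/-!
# The Chow image exists
-/

set_option autoImplicit false
set_option linter.style.haveILetI false
set_option linter.unusedSectionVars false
set_option backward.isDefEq.respectTransparency false
set_option synthInstance.maxHeartbeats 200000
universe u

open CategoryTheory CategoryTheory.Limits MonoidalCategory CartesianMonoidalCategory MonObj GrpObj AlgebraicGeometry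
open Groth.Agent Groth.Agent.H25AbCube

noncomputable section

namespace Groth.Agent.H25Chow

/-- A nonempty family of ideal sheaves on a Noetherian scheme has a maximal member. -/
theorem exists_maximal_ideal {X : Scheme.{u}} [IsLocallyNoetherian X] [CompactSpace X]
    (S : Set X.IdealSheafData) (hS : S.Nonempty) : ∃ I ∈ S, ∀ J ∈ S, I ≤ J → I = J := by
  classical
  obtain ⟨t, ht⟩ := isCompact_univ.elim_finite_subcover (fun U : X.affineOpens => (U.1 : Set X))
    (fun U => U.1.isOpen) (fun x _ => by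
      obtain ⟨U, hU, hx, -⟩ := exists_isAffineOpen_mem_and_subset (U := (⊤ : X.Opens)) (x := x) trivial
      exact Set.mem_iUnion.2 ⟨⟨U, hU⟩, hx⟩)
  let Φ : X.IdealSheafData → ((U : ↥t) → Ideal Γ(X, U.1.1)) := fun I U => I.ideal U.1
  haveI : ∀ U : ↥t, IsNoetherianRing Γ(X, U.1.1) := fun U => IsLocallyNoetherian.component_noetherian U.1
  haveI : WellFoundedGT ((U : ↥t) → Ideal Γ(X, U.1.1)) :=
    ⟨(Pi.wellFoundedLT (α := fun U : ↥t => (Ideal Γ(X, U.1.1))ᵒᵈ)).wf⟩
  obtain ⟨-, ⟨I, hI, rfl⟩, hmax⟩ :=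
    (wellFounded_gt (α := (U : ↥t) → Ideal Γ(X, U.1.1))).has_min (Φ '' S) (hS.image Φ)
  refine ⟨I, hI, fun J hJ hle => ?_⟩
  refine Scheme.IdealSheafData.ext_of_iSup_eq_top (fun U : ↥t => U.1) ?_ fun U => ?_
  · refine top_le_iff.1 fun x _ => ?_
    obtain ⟨U, hU, hx⟩ := Set.mem_iUnion₂.1 (ht (Set.mem_univ x))
    exact TopologicalSpace.Opens.mem_iSup.2 ⟨⟨U, hU⟩, hx⟩
  · have h := hmax (Φ J) ⟨J, hJ, rfl⟩
    have hle' : Φ I ≤ Φ J := fun U => hle U.1
    exact congrFun (hle'.eq_of_not_lt h) U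

variable {k K : Type u} [Field k] [Field K] [Algebra k K]

theorem isClosedImmersion_one {S : Type u} [Field S] (X : Over (Spec (CommRingCat.of S))) [GrpObj X]
    [IsSeparated X.hom] : IsClosedImmersion η[X].left :=
  haveI : Subsingleton (𝟙_ (Over (Spec (CommRingCat.of S)))).left := inferInstanceAs (Subsingleton (PrimeSpectrum S))
  isClosedImmersion_of_comp_eq_id _ _ (Over.w η[X])

/-- The ideal of the kernel of a homomorphism. -/
def kerIdeal {S : Type u} [Field S] {A C : Over (Spec (CommRingCat.of S))} [GrpObj C] (l : A ⟶ C) :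
    A.left.IdealSheafData :=
  (pullback.fst l.left η[C].left).ker

theorem fst_comp_eq_one {S : Type u} [Field S] {A C : Over (Spec (CommRingCat.of S))} [GrpObj C] (l : A ⟶ C) :
    (Over.homMk (pullback.fst l.left η[C].left) rfl :
      Over.mk (pullback.fst l.left η[C].left ≫ A.hom) ⟶ A) ≫ l = 1 := by
  refine Over.OverMorphism.ext ?_
  show pullback.fst _ _ ≫ l.left = _
  rw [H19Grp.one_left, pullback.condition]
  show _ = (pullback.fst l.left η[C].left ≫ A.hom) ≫ η[C].left
  congr 1
  rw [← Over.w l, ← Category.assoc, pullback.condition, Category.assoc, Over.w η[C]]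
  exact (Category.comp_id _).symm

theorem factor_of_comp_eq_one {S : Type u} [Field S] {A C : Over (Spec (CommRingCat.of S))} [GrpObj C] (l : A ⟶ C)
    {T : Over (Spec (CommRingCat.of S))} (x : T ⟶ A) (hx : x ≫ l = 1) :
    ∃ t : T.left ⟶ pullback l.left η[C].left, t ≫ pullback.fst l.left η[C].left = x.left := by
  refine ⟨pullback.lift x.left T.hom ?_, pullback.lift_fst _ _ _⟩
  rw [← Over.comp_left, hx]
  exact H19Grp.one_left _

/-- The `K/k`-image exists. -/
theorem exists_image (hK : AbVar.IsPrimaryExt k K)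
    (A : Over (Spec (CommRingCat.of K))) [GrpObj A] [IsProper A.hom] [GeometricallyIntegral A.hom] :
    ∃ (A₀ : Over (Spec (CommRingCat.of k))) (_ : GrpObj A₀),
      IsProper A₀.hom ∧ GeometricallyIntegral A₀.hom ∧
        ∃ lam : A ⟶ Red.bc (AbVar.ext k K) A₀, AbVar.IsChowImage k K A A₀ lam := by
  classical
  let σK := AbVar.ext k K
  let F := Over.pullback σK
  haveI : IsLocallyNoetherian A.left := LocallyOfFiniteType.isLocallyNoetherian A.hom
  haveI : CompactSpace A.left := QuasiCompact.compactSpace_of_compactSpace A.hom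
  let S : Set A.left.IdealSheafData := {I | ∃ (C : Over (Spec (CommRingCat.of k))) (_ : GrpObj C)
    (_ : IsProper C.hom) (_ : GeometricallyIntegral C.hom) (l : A ⟶ Red.bc σK C),
      IsMonHom l ∧ Surjective l.left ∧ I = kerIdeal l}
  have hS : S.Nonempty := by
    let P : Over (Spec (CommRingCat.of k)) := 𝟙_ _
    haveI : IsProper P.hom := inferInstanceAs (IsProper (𝟙 (Spec (CommRingCat.of k))))
    haveI : GeometricallyIntegral P.hom :=
      ⟨fun M _ y Z fst snd h => by
        haveI : IsIso snd := MorphismProperty.of_isPullback h (inferInstance : IsIso (𝟙 (Spec (CommRingCat.of k))))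
        haveI : Surjective snd := inferInstance
        haveI : Nonempty Z := by
          obtain ⟨z, -⟩ := snd.surjective (Classical.arbitrary _)
          exact ⟨z⟩
        exact isIntegral_of_isOpenImmersion snd⟩
    haveI : IsProper (Red.bc σK P).hom := MorphismProperty.pullback_snd _ _ inferInstance
    haveI : GeometricallyIntegral (Red.bc σK P).hom := MorphismProperty.pullback_snd _ _ inferInstance
    haveI hiso : IsIso (Red.bc σK P).hom :=
      MorphismProperty.pullback_snd (P := MorphismProperty.isomorphisms Scheme.{u}) _ _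
        (inferInstanceAs (IsIso (𝟙 (Spec (CommRingCat.of k)))))
    let l : A ⟶ Red.bc σK P := 1
    haveI : IsMonHom l := H25Rig.isMonHom_of_one_hom _ ((MonObj.comp_one _).trans (by
      rw [Hom.one_def, toUnit_unique (toUnit _) (𝟙 _), Category.id_comp]))
    have hls : Surjective l.left := ⟨fun y => by
      haveI : Nonempty A.left :=
        haveI : IsIntegral A.left := GeometricallyIntegral.isIntegral_of_subsingleton A.hom
        inferInstance
      haveI : Subsingleton (Red.bc σK P).left := ((Red.bc σK P).hom.isOpenEmbedding.injective).subsingleton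
      exact ⟨Classical.arbitrary _, Subsingleton.elim _ _⟩⟩
    exact ⟨kerIdeal l, P, inferInstance, inferInstance, inferInstance, l, inferInstance, hls, rfl⟩
  obtain ⟨I, ⟨C, gC, hC1, hC2, lam, hlam, hsurj, rfl⟩, hmax⟩ := exists_maximal_ideal S hS
  haveI := hlam; haveI := hsurj
  refine ⟨C, gC, hC1, hC2, lam, hlam, hsurj, fun B _ _ _ α _ => ?_⟩
  haveI : IsCommMonObj C := isCommMonObj_of_av
  haveI : IsCommMonObj B := isCommMonObj_of_av
  haveI : IsProper (C ⊗ B).hom := inferInstanceAs (IsProper (pullback.fst C.hom B.hom ≫ C.hom))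
  haveI : GeometricallyIntegral (C ⊗ B).hom := H25Rig.geometricallyIntegral_tensor C B
  haveI : IsProper (Red.bc σK C).hom := MorphismProperty.pullback_snd _ _ inferInstance
  haveI : GeometricallyIntegral (Red.bc σK C).hom := MorphismProperty.pullback_snd _ _ inferInstance
  haveI : IsProper (Red.bc σK B).hom := MorphismProperty.pullback_snd _ _ inferInstance
  haveI : GeometricallyIntegral (Red.bc σK B).hom := MorphismProperty.pullback_snd _ _ inferInstance
  haveI : IsProper (Red.bc σK (C ⊗ B)).hom := MorphismProperty.pullback_snd _ _ inferInstance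
  haveI : GeometricallyIntegral (Red.bc σK (C ⊗ B)).hom := MorphismProperty.pullback_snd _ _ inferInstance
  haveI : IsCommMonObj (Red.bc σK (C ⊗ B)) := isCommMonObj_of_av
  haveI : IsMonHom (1 : B ⟶ C) := H25Rig.isMonHom_of_one_hom _ (MonObj.comp_one _ |>.trans (by
    rw [Hom.one_def, toUnit_unique (toUnit _) (𝟙 _), Category.id_comp]))
  haveI : IsMonHom (1 : C ⟶ B) := H25Rig.isMonHom_of_one_hom _ (MonObj.comp_one _ |>.trans (by
    rw [Hom.one_def, toUnit_unique (toUnit _) (𝟙 _), Category.id_comp]))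
  let f : A ⟶ Red.bc σK (C ⊗ B) :=
    (lam ≫ (F.map (lift (𝟙 C) (1 : C ⟶ B)) : Red.bc σK C ⟶ Red.bc σK (C ⊗ B))) *
      (α ≫ (F.map (lift (1 : B ⟶ C) (𝟙 B)) : Red.bc σK B ⟶ Red.bc σK (C ⊗ B)))
  haveI : IsMonHom f := by
    haveI : IsMonHom (F.map (lift (𝟙 C) (1 : C ⟶ B)) : Red.bc σK C ⟶ Red.bc σK (C ⊗ B)) :=
      inferInstanceAs (IsMonHom (F.map _))
    haveI : IsMonHom (F.map (lift (1 : B ⟶ C) (𝟙 B)) : Red.bc σK B ⟶ Red.bc σK (C ⊗ B)) :=
      inferInstanceAs (IsMonHom (F.map _))
    show IsMonHom (lift _ _ ≫ μ[Red.bc σK (C ⊗ B)])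
    infer_instance
  have hproj : ∀ {Z : Over (Spec (CommRingCat.of k))} [GrpObj Z] (g : C ⊗ B ⟶ Z) [IsMonHom g],
      f ≫ (F.map g : Red.bc σK (C ⊗ B) ⟶ Red.bc σK Z) =
        (lam ≫ (F.map (lift (𝟙 C) (1 : C ⟶ B) ≫ g) : Red.bc σK C ⟶ Red.bc σK Z)) *
        (α ≫ (F.map (lift (1 : B ⟶ C) (𝟙 B) ≫ g) : Red.bc σK B ⟶ Red.bc σK Z)) := by
    intro Z _ g _
    haveI : IsMonHom (F.map g : Red.bc σK (C ⊗ B) ⟶ Red.bc σK Z) := inferInstanceAs (IsMonHom (F.map g))
    show (_ * _) ≫ (F.map g : Red.bc σK (C ⊗ B) ⟶ Red.bc σK Z) = _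
    rw [MonObj.mul_comp, Category.assoc, Category.assoc, ← F.map_comp, ← F.map_comp]
  have hfst : f ≫ (F.map (fst C B) : Red.bc σK (C ⊗ B) ⟶ Red.bc σK C) = lam := by
    refine (hproj (fst C B)).trans ?_
    rw [lift_fst, lift_fst, show (F.map (1 : B ⟶ C) : Red.bc σK B ⟶ Red.bc σK C) = 1 from
      map_one (Functor.homMonoidHom F), MonObj.comp_one, _root_.mul_one]
    exact (congrArg (lam ≫ ·) (F.map_id C)).trans (Category.comp_id _)
  have hsnd : f ≫ (F.map (snd C B) : Red.bc σK (C ⊗ B) ⟶ Red.bc σK B) = α := by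
    refine (hproj (snd C B)).trans ?_
    rw [lift_snd, lift_snd, show (F.map (1 : C ⟶ B) : Red.bc σK C ⟶ Red.bc σK B) = 1 from
      map_one (Functor.homMonoidHom F), MonObj.comp_one, _root_.one_mul]
    exact (congrArg (α ≫ ·) (F.map_id B)).trans (Category.comp_id _)
  obtain ⟨M, gM, i, g, hi, hic, hM1, hM2, hfac, hg, hgs⟩ := exists_abelian_image f
  haveI := hi; haveI := hic; haveI := hM1; haveI := hM2; haveI := hg; haveI := hgs
  obtain ⟨C', gC', j, h1, h2, h3, h4, e, he⟩ := exists_descent hK (C ⊗ B) M i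
  haveI := h1; haveI := h2; haveI := h3
  haveI : IsProper (Red.bc σK C').hom := MorphismProperty.pullback_snd _ _ inferInstance
  haveI : GeometricallyIntegral (Red.bc σK C').hom := MorphismProperty.pullback_snd _ _ inferInstance
  let l' : A ⟶ Red.bc σK C' := g ≫ e.inv
  have hl'f : l' ≫ (F.map j : Red.bc σK C' ⟶ Red.bc σK (C ⊗ B)) = f := by
    show (g ≫ e.inv) ≫ F.map j = f
    rw [← he, Category.assoc, Iso.inv_hom_id_assoc, hfac]
  haveI : IsMonHom l' := by
    haveI : Mono i := Over.mono_of_mono_left _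
    haveI : IsMonHom e.inv := H25Rig.isMonHom_of_one_hom _ (by
      rw [Iso.comp_inv_eq, ← cancel_mono i, Category.assoc, he, IsMonHom.one_hom i]
      exact (IsMonHom.one_hom (f := (F.map j : Red.bc σK C' ⟶ Red.bc σK (C ⊗ B)))).symm)
    infer_instance
  haveI : IsIso e.inv.left := inferInstanceAs (IsIso ((Over.forget _).map e.inv))
  haveI hl's : Surjective l'.left := by
    show Surjective (g.left ≫ e.inv.left)
    infer_instance
  haveI : IsSeparated (Red.bc σK C).hom := inferInstance
  haveI : IsClosedImmersion η[Red.bc σK C].left := isClosedImmersion_one _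
  haveI : IsClosedImmersion η[Red.bc σK C'].left := isClosedImmersion_one _
  have hkey : ∀ {T : Over (Spec (CommRingCat.of K))} (x : T ⟶ A), x ≫ l' = 1 → x ≫ f = 1 := fun x hx => by
    haveI : IsMonHom (F.map j : Red.bc σK C' ⟶ Red.bc σK (C ⊗ B)) := inferInstanceAs (IsMonHom (F.map j))
    rw [← hl'f, ← Category.assoc, hx, MonObj.one_comp]
  haveI : IsMonHom (F.map (fst C B) : Red.bc σK (C ⊗ B) ⟶ Red.bc σK C) := inferInstanceAs (IsMonHom (F.map _))
  haveI : IsMonHom (F.map (snd C B) : Red.bc σK (C ⊗ B) ⟶ Red.bc σK B) := inferInstanceAs (IsMonHom (F.map _))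
  have heq : kerIdeal lam = kerIdeal l' := by
    refine hmax _ ⟨C', gC', h1, h2, l', inferInstance, hl's, rfl⟩ ?_
    obtain ⟨t, ht⟩ := factor_of_comp_eq_one lam _ (show (Over.homMk (pullback.fst l'.left η[Red.bc σK C'].left) rfl :
      Over.mk (pullback.fst l'.left η[Red.bc σK C'].left ≫ A.hom) ⟶ A) ≫ lam = 1 by
        rw [← hfst, ← Category.assoc, hkey _ (fst_comp_eq_one l'), MonObj.one_comp])
    show Scheme.Hom.ker _ ≤ Scheme.Hom.ker _
    rw [← show t ≫ pullback.fst lam.left η[Red.bc σK C].left = pullback.fst l'.left η[Red.bc σK C'].left from ht]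
    exact Scheme.Hom.le_ker_comp _ _
  have hker : ∀ {T : Over (Spec (CommRingCat.of K))} (x : T ⟶ A), x ≫ lam = 1 → x ≫ α = 1 := fun {T} x hx => by
    obtain ⟨t, ht⟩ := factor_of_comp_eq_one lam x hx
    let s := IsClosedImmersion.lift (pullback.fst l'.left η[Red.bc σK C'].left) (pullback.fst lam.left η[Red.bc σK C].left)
      heq.ge
    have hs : (t ≫ s) ≫ pullback.fst l'.left η[Red.bc σK C'].left = x.left := by
      rw [Category.assoc, IsClosedImmersion.lift_fac, ht]
    let y : T ⟶ Over.mk (pullback.fst l'.left η[Red.bc σK C'].left ≫ A.hom) := Over.homMk (t ≫ s) (by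
      show (t ≫ s) ≫ _ ≫ A.hom = _
      rw [← Category.assoc, hs, Over.w x])
    have hy : y ≫ Over.homMk (pullback.fst l'.left η[Red.bc σK C'].left) rfl = x := Over.OverMorphism.ext hs
    have hxl : x ≫ l' = 1 := by rw [← hy, Category.assoc, fst_comp_eq_one, MonObj.comp_one]
    rw [← hsnd, ← Category.assoc, hkey x hxl, MonObj.one_comp]
  haveI : GrpObj (Over.mk (Red.bc σK C).hom) := inferInstanceAs (GrpObj (Red.bc σK C))
  haveI : Smooth (Red.bc σK C).hom := smooth_of_grpObj (Red.bc σK C).hom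
  haveI : QuasiCompact lam.left := by
    haveI : QuasiCompact (lam.left ≫ (Red.bc σK C).hom) := by rw [Over.w lam]; infer_instance
    exact QuasiCompact.of_comp _ (Red.bc σK C).hom
  haveI : Flat lam.left := H19Grp.flat_of_surjective lam
  obtain ⟨α₁, hα₁, -⟩ := H19Grp.existsUnique_desc_over lam α fun T a b hab => by
    have hd : (a / b) ≫ lam = 1 := by rw [GrpObj.div_comp, hab, div_self']
    have h3 := hker _ hd
    rwa [GrpObj.div_comp, div_eq_one] at h3
  haveI : IsMonHom α₁ := H25Rig.isMonHom_of_one_hom _ (by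
    rw [← IsMonHom.one_hom (f := lam), Category.assoc, hα₁, IsMonHom.one_hom α])
  obtain ⟨α₀, hα₀, h0⟩ := exists_hom hK C B α₁
  exact ⟨α₀, hα₀, by rw [h0, hα₁]⟩

end Groth.Agent.H25Chow
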