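import Groth.Agent.H25Chow.Fin
import Groth.Agent.H25Chow.Image
import Groth.Agent.H25AbCube.PoincareRegular
import Groth.Agent.H19Quot.AbelianCat

/-!
# Kernels, quotient abelian varieties, purely inseparable homomorphisms
-/

set_option autoImplicit false
set_option linter.style.haveILetI false
set_option linter.unusedSectionVars false
set_option backward.isDefEq.respectTransparency false
set_option synthInstance.maxHeartbeats 400000
set_option maxHeartbeats 1000000
universe u

open CategoryTheory CategoryTheory.Limits MonoidalCategory CartesianMonoidalCategory MonObj GrpObj AlgebraicGeometry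
open Groth.Agent Groth.Agent.H25AbCube

noncomputable section

namespace Groth.Agent.H25Chow

/-- The kernel of a base change is the base change of the kernel. -/
theorem bc_kernel_lift {S S' : Scheme.{u}} (σ : S' ⟶ S) {N G Q : Over S} [GrpObj Q] {i : N ⟶ G} {q : G ⟶ Q}
    (h : AlgGrp.IsKernel i q) {T : Over S'} (x : T ⟶ Red.bc σ G)
    (hx : x ≫ ((Over.pullback σ).map q : Red.bc σ G ⟶ Red.bc σ Q) = 1) :
    ∃ t : T ⟶ Red.bc σ N, t ≫ (Over.pullback σ).map i = x := by
  let T₀ : Over S := Over.mk (T.hom ≫ σ)
  let x₀ : T₀ ⟶ G := Over.homMk (x.left ≫ pullback.fst G.hom σ) (by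
    show (x.left ≫ pullback.fst G.hom σ) ≫ G.hom = T.hom ≫ σ
    rw [Category.assoc, pullback.condition, ← Category.assoc]
    congr 1
    exact Over.w x)
  have h1 : x₀ ≫ q = 1 := by
    refine Over.OverMorphism.ext ?_
    show (x.left ≫ pullback.fst G.hom σ) ≫ q.left = _
    rw [H19Grp.one_left, Category.assoc]
    have h2 : x.left ≫ ((Over.pullback σ).map q).left ≫ pullback.fst Q.hom σ = T.hom ≫ σ ≫ η[Q].left := by
      rw [← H19Grp.bc_one σ Q, ← Category.assoc, ← Category.assoc, ← Over.comp_left, hx, H19Grp.one_left]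
    rw [← (H19Grp.isPullback_map σ q).w] at h2
    exact h2.trans (Category.assoc _ _ _).symm
  obtain ⟨n, hn⟩ := H19Grp.kernel_lift h x₀ h1
  have hn' : n.left ≫ i.left = x.left ≫ pullback.fst G.hom σ := congrArg (fun w : T₀ ⟶ G => w.left) hn
  refine ⟨Over.homMk (pullback.lift n.left T.hom (Over.w n)) (pullback.lift_snd _ _ _), Over.OverMorphism.ext ?_⟩
  show pullback.lift n.left T.hom _ ≫ ((Over.pullback σ).map i).left = x.left
  refine pullback.hom_ext ?_ ?_
  · rw [Category.assoc, ← (H19Grp.isPullback_map σ i).w, pullback.lift_fst_assoc, hn']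
  · rw [Category.assoc, show ((Over.pullback σ).map i).left ≫ pullback.snd G.hom σ = pullback.snd N.hom σ from
      Over.w ((Over.pullback σ).map i), pullback.lift_snd]
    exact (Over.w x).symm

variable {k : Type u} [Field k]

/-- A homomorphism whose kernel is the origin is universally injective. -/
theorem universallyInjective_of_ker {X Y : Over (Spec (CommRingCat.of k))} [GrpObj X] [IsSeparated X.hom] [GrpObj Y]
    (f : X ⟶ Y) [IsMonHom f] {N : Over (Spec (CommRingCat.of k))} {i : N ⟶ X} (hker : AlgGrp.IsKernel i f)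
    (h : Set.range i.left ⊆ {η[X].left (IsLocalRing.closedPoint k)}) : UniversallyInjective f.left := by
  refine ((tfae_universallyInjective f.left).out 1 0).1 fun L instL g₁ g₂ hg => ?_
  letI := instL
  let T : Over (Spec (CommRingCat.of k)) := Over.mk (g₁ ≫ X.hom)
  have hw : g₂ ≫ X.hom = g₁ ≫ X.hom := by
    rw [← Over.w f, ← Category.assoc, ← Category.assoc, show g₁ ≫ f.left = g₂ ≫ f.left from hg]
  let a : T ⟶ X := Over.homMk g₁ rfl
  let b : T ⟶ X := Over.homMk g₂ hw
  obtain ⟨n, hn⟩ := H19Grp.exists_kernel_div f hker a b (Over.OverMorphism.ext hg)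
  haveI : IsClosedImmersion η[X].left := isClosedImmersion_one X
  let q : pullback (n ≫ i).left η[X].left ⟶ T.left := pullback.fst _ _
  haveI : IsClosedImmersion q := MorphismProperty.pullback_fst _ _ inferInstance
  haveI : Surjective q := ⟨fun o => by
    obtain ⟨w, hw, -⟩ := Scheme.Pullback.exists_preimage_pullback o (IsLocalRing.closedPoint k)
      (f := (n ≫ i).left) (g := η[X].left) (Set.mem_singleton_iff.1 (h ⟨n.left o, rfl⟩))
    exact ⟨w, hw⟩⟩
  haveI : IsReduced T.left := inferInstanceAs (IsReduced (Spec (CommRingCat.of L)))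
  haveI : IsIso q := isIso_of_isClosedImmersion_of_surjective q
  have hlift : (inv q ≫ pullback.snd _ _) ≫ η[X].left = (n ≫ i).left := by
    rw [Category.assoc, ← pullback.condition, IsIso.inv_hom_id_assoc]
  have hz : inv q ≫ pullback.snd (n ≫ i).left η[X].left = T.hom := by
    have h2 := congrArg (fun w : T.left ⟶ X.left => w ≫ X.hom) hlift
    rw [show (n ≫ i).left ≫ X.hom = T.hom from Over.w (n ≫ i), Category.assoc, Over.w η[X]] at h2
    exact ((Category.comp_id _).symm.trans h2)
  have h1 : a / b = 1 := by
    rw [← hn]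
    exact Over.OverMorphism.ext ((hlift.symm.trans (congrArg (· ≫ η[X].left) hz)).trans (H19Grp.one_left T).symm)
  exact congrArg (fun w : T ⟶ X => w.left) (div_eq_one.1 h1)

/-- The quotient of an abelian variety by a closed subgroup is an abelian variety. -/
theorem exists_av_quotient {A H : Over (Spec (CommRingCat.of k))} [GrpObj A] [IsProper A.hom]
    [GeometricallyIntegral A.hom] [GrpObj H] (i : H ⟶ A) [IsMonHom i] [IsClosedImmersion i.left] :
    ∃ (Q : Over (Spec (CommRingCat.of k))) (_ : GrpObj Q) (q : A ⟶ Q), IsProper Q.hom ∧ GeometricallyIntegral Q.hom ∧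
      IsMonHom q ∧ Flat q.left ∧ Surjective q.left ∧ QuasiCompact q.left ∧ AlgGrp.IsKernel i q := by
  haveI : IsCommMonObj A := isCommMonObj_of_av
  obtain ⟨Q, gQ, q, hq, -, hQ, hf, hs, -, hk⟩ := H19Quot.AbelianCat.exists_cokernel i ⟨inferInstance, inferInstance⟩
  haveI := hq; haveI := hs; haveI := hf
  haveI := hQ.lft
  haveI : IsSeparated Q.hom := H19Grp.AffineQuotient.isSeparated_of_grp Q
  haveI : IsProper q.left := by
    haveI : IsProper (q.left ≫ Q.hom) := by rw [Over.w q]; infer_instance
    exact IsProper.of_comp q.left Q.hom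
  haveI : IsProper Q.hom := by
    haveI : UniversallyClosed (q.left ≫ Q.hom) := by rw [Over.w q]; infer_instance
    haveI : UniversallyClosed Q.hom := UniversallyClosed.of_comp_surjective q.left Q.hom
    exact {}
  haveI : IsIntegral A.left := GeometricallyIntegral.isIntegral_of_subsingleton A.hom
  haveI : GeometricallyReduced (q.left ≫ Q.hom) := by rw [Over.w q]; infer_instance
  haveI : IsReduced Q.left := H19Grp.isReduced_of_flat_surjective q.left
  haveI : GeometricallyReduced Q.hom := H19Grp.geometricallyReduced_of_surjective q.left Q.hom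
  haveI : ConnectedSpace ↥Q.left := q.left.surjective.connectedSpace q.left.continuous
  exact ⟨Q, gQ, q, inferInstance, geometricallyIntegral_of_connected Q, hq, hf, hs, inferInstance, hk⟩

/-- A finite subgroup of a commutative group scheme is killed by a positive integer. -/
theorem exists_killed {X N : Over (Spec (CommRingCat.of k))} [GrpObj X] [IsCommMonObj X] [GrpObj N] (i : N ⟶ X)
    [IsMonHom i] [Mono i] [IsFinite N.hom] : ∃ r : ℕ, 0 < r ∧ i ≫ ((𝟙 X) ^ r : X ⟶ X) = 1 := by
  haveI : IsCommMonObj N := H19Quot.AbelianCat.comm_of_mono i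
  haveI : IsNoetherianRing (CommRingCat.of k) := inferInstanceAs (IsNoetherianRing k)
  haveI : Flat N.hom := inferInstance
  haveI : LocallyOfFinitePresentation N.hom := inferInstance
  let r := N.hom.finrank (IsLocalRing.closedPoint k)
  have hr : 0 < r := by
    have h := Scheme.Hom.one_le_finrank_map N.hom ((η[N]).left (IsLocalRing.closedPoint k))
    rwa [show N.hom ((η[N]).left (IsLocalRing.closedPoint k)) = IsLocalRing.closedPoint k from
      Subsingleton.elim (α := PrimeSpectrum k) _ _] at h
  have hN : (𝟙 N : N ⟶ N) ^ r = 1 := H19Grp.CommOrder.id_pow_eq_one N r fun x =>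
    congrArg N.hom.finrank (Subsingleton.elim (α := PrimeSpectrum k) x _)
  refine ⟨r, hr, ?_⟩
  rw [MonObj.comp_pow, Category.comp_id, ← Category.id_comp i, ← MonObj.pow_comp, hN, MonObj.one_comp]

/-- The kernel of a finite homomorphism is finite. -/
theorem isFinite_kernel {X Y N : Over (Spec (CommRingCat.of k))} [GrpObj Y] (f : X ⟶ Y) [IsFinite f.left]
    {i : N ⟶ X} [IsClosedImmersion i.left] (hker : AlgGrp.IsKernel i f) : IsFinite N.hom := by
  let m : N.left ⟶ pullback f.left (η[Y]).left := pullback.lift i.left N.hom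
    ((congrArg (fun w : N ⟶ Y => w.left) (H19Grp.kernel_comp_eq_one hker)).trans (H19Grp.one_left N))
  haveI : IsClosedImmersion (m ≫ pullback.fst f.left (η[Y]).left) := by
    rw [pullback.lift_fst]; infer_instance
  haveI : IsClosedImmersion m := IsClosedImmersion.of_comp m (pullback.fst f.left (η[Y]).left)
  rw [show N.hom = m ≫ pullback.snd f.left (η[Y]).left from (pullback.lift_snd _ _ _).symm]
  infer_instance

end Groth.Agent.H25Chow
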