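import Groth.Agent.H25Chow.Hom
import Groth.Agent.H28Neron.HomQuasiFinite

/-!
# Comparison of iterated base changes of abelian varieties
-/

set_option autoImplicit false
set_option linter.style.haveILetI false
set_option linter.unusedSectionVars false
set_option backward.isDefEq.respectTransparency false
set_option synthInstance.maxHeartbeats 200000
universe u

open CategoryTheory CategoryTheory.Limits MonoidalCategory CartesianMonoidalCategory MonObj GrpObj AlgebraicGeometry
open Groth.Agent Groth.Agent.H25AbCube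

noncomputable section

namespace Groth.Agent.H25Chow

variable {S S' S'' : Scheme.{u}} {f : S'' ⟶ S'} {g : S' ⟶ S}

/-- The comparison between iterated and direct base change followed by the projections. -/
theorem comp_hom_fst (X : Over S) :
    ((Over.pullbackComp f g).hom.app X).left ≫ pullback.fst _ f ≫ pullback.fst X.hom g =
      pullback.fst X.hom (f ≫ g) := by
  simp [Over.pullbackComp, conjugateEquiv_apply_app, Over.mapComp]
  exact (Category.id_comp _).trans (Category.id_comp _)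

theorem comp_inv_fst (X : Over S) :
    ((Over.pullbackComp f g).inv.app X).left ≫ pullback.fst X.hom (f ≫ g) =
      pullback.fst _ f ≫ pullback.fst X.hom g := by
  rw [← comp_hom_fst X]
  exact (Category.assoc _ _ _).symm.trans ((congrArg (· ≫ pullback.fst _ f ≫ pullback.fst X.hom g)
    (congrArg (fun w : _ ⟶ _ => Over.Hom.left w) ((Over.pullbackComp f g).inv_hom_id_app X))).trans (Category.id_comp _))

variable {h : S'' ⟶ S} (hc : f ≫ g = h)

/-- The comparison iso from iterated to direct base change. -/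
def cmp (X : Over S) : Red.bc f (Red.bc g X) ≅ Red.bc h X :=
  ((Over.pullbackComp f g).app X).symm ≪≫ eqToIso (congrArg (fun φ => Red.bc φ X) hc)

theorem cmp_hom (X : Over S) :
    (cmp hc X).hom = (Over.pullbackComp f g).inv.app X ≫ eqToHom (congrArg (fun φ => Red.bc φ X) hc) := rfl

theorem cmp_inv (X : Over S) :
    (cmp hc X).inv = eqToHom (congrArg (fun φ => Red.bc φ X) hc.symm) ≫ (Over.pullbackComp f g).hom.app X := rfl

theorem cmp_fst (X : Over S) :
    (cmp hc X).hom.left ≫ pullback.fst X.hom h = pullback.fst _ f ≫ pullback.fst X.hom g := by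
  subst hc
  rw [cmp_hom, eqToHom_refl, Category.comp_id]
  exact comp_inv_fst X

@[reassoc]
theorem cmp_naturality {X Y : Over S} (α : X ⟶ Y) :
    (Over.pullback f).map ((Over.pullback g).map α) ≫ (cmp hc Y).hom = (cmp hc X).hom ≫ (Over.pullback h).map α := by
  subst hc
  rw [cmp_hom, cmp_hom, eqToHom_refl, eqToHom_refl, Category.comp_id, Category.comp_id]
  exact (Over.pullbackComp f g).inv.naturality α

@[reassoc]
theorem cmp_inv_naturality {X Y : Over S} (α : X ⟶ Y) :
    (cmp hc X).inv ≫ (Over.pullback f).map ((Over.pullback g).map α) = (Over.pullback h).map α ≫ (cmp hc Y).inv := by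
  rw [Iso.inv_comp_eq, ← Category.assoc, ← cmp_naturality hc, Category.assoc, Iso.hom_inv_id, Category.comp_id]

theorem one_cmp (X : Over S) [GrpObj X] : η[Red.bc f (Red.bc g X)] ≫ (cmp hc X).hom = η[Red.bc h X] := by
  refine Over.OverMorphism.ext (pullback.hom_ext ?_ ?_)
  · have h1 := H28Neron.HomQuasiFinite.η_left_fst h X
    have h2 := H28Neron.HomQuasiFinite.η_left_fst f (Red.bc g X)
    have h3 := H28Neron.HomQuasiFinite.η_left_fst g X
    show (_ ≫ (cmp hc X).hom.left) ≫ _ = _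
    rw [Category.assoc, cmp_fst, ← Category.assoc]
    refine (congrArg (· ≫ pullback.fst X.hom g) h2).trans ?_
    refine (Category.assoc _ _ _).trans ((congrArg (f ≫ ·) h3).trans ?_)
    rw [← Category.assoc, hc]
    exact h1.symm
  · exact (Over.w (η[Red.bc f (Red.bc g X)] ≫ (cmp hc X).hom)).trans (Over.w η[Red.bc h X]).symm

theorem one_cmp_inv (X : Over S) [GrpObj X] : η[Red.bc h X] ≫ (cmp hc X).inv = η[Red.bc f (Red.bc g X)] := by
  rw [Iso.comp_inv_eq, one_cmp]

end Groth.Agent.H25Chow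

namespace Groth.Agent.H25Chow

variable {k K K' : Type u} [Field k] [Field K] [Field K'] [Algebra k K] [Algebra K K'] [Algebra k K']

theorem isMonHom_cmp (hc : AbVar.ext K K' ≫ AbVar.ext k K = AbVar.ext k K')
    (X : Over (Spec (CommRingCat.of k))) [GrpObj X] [IsProper X.hom] [GeometricallyIntegral X.hom] :
    IsMonHom (cmp hc X).hom ∧ IsMonHom (cmp hc X).inv := by
  haveI : IsProper (Red.bc (AbVar.ext k K) X).hom := MorphismProperty.pullback_snd _ _ inferInstance
  haveI : GeometricallyIntegral (Red.bc (AbVar.ext k K) X).hom := MorphismProperty.pullback_snd _ _ inferInstance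
  haveI : IsProper (Red.bc (AbVar.ext K K') (Red.bc (AbVar.ext k K) X)).hom := MorphismProperty.pullback_snd _ _ inferInstance
  haveI : GeometricallyIntegral (Red.bc (AbVar.ext K K') (Red.bc (AbVar.ext k K) X)).hom :=
    MorphismProperty.pullback_snd _ _ inferInstance
  haveI : IsProper (Red.bc (AbVar.ext k K') X).hom := MorphismProperty.pullback_snd _ _ inferInstance
  haveI : GeometricallyIntegral (Red.bc (AbVar.ext k K') X).hom := MorphismProperty.pullback_snd _ _ inferInstance
  exact ⟨H25Rig.isMonHom_of_one_hom _ (one_cmp hc X), H25Rig.isMonHom_of_one_hom _ (one_cmp_inv hc X)⟩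

/-- A surjective homomorphism of abelian varieties is an epimorphism. -/
theorem eq_of_surjective {X Y Z : Over (Spec (CommRingCat.of k))} [IsProper X.hom] [GeometricallyIntegral Y.hom]
    [IsProper Z.hom] (p : X ⟶ Y) [Surjective p.left] {a b : Y ⟶ Z} (h : p ≫ a = p ≫ b) : a = b := by
  haveI : IsIntegral Y.left := GeometricallyIntegral.isIntegral_of_subsingleton Y.hom
  haveI : IsDominant p.left := ⟨p.left.surjective.denseRange⟩
  exact Over.OverMorphism.ext (ext_of_isDominant_of_isSeparated Z.hom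
    ((Over.w a).trans (Over.w b).symm) p.left (congrArg (fun w : X ⟶ Z => w.left) h))

theorem surjective_map {X Y : Over (Spec (CommRingCat.of k))} (f : X ⟶ Y) [Surjective f.left] :
    Surjective ((Over.pullback (AbVar.ext k K)).map f).left :=
  MorphismProperty.of_isPullback (P := @Surjective) (H19Grp.isPullback_map (AbVar.ext k K) f) ‹_›

theorem isFinite_map {X Y : Over (Spec (CommRingCat.of k))} (f : X ⟶ Y) [IsFinite f.left] :
    IsFinite ((Over.pullback (AbVar.ext k K)).map f).left :=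
  MorphismProperty.of_isPullback (P := @IsFinite) (H19Grp.isPullback_map (AbVar.ext k K) f) ‹_›

end Groth.Agent.H25Chow

namespace Groth.Agent.H25Chow

variable {S S' S'' : Scheme.{u}}

/-- The first projection of a base changed map followed by the comparison. -/
theorem bcComp_fst (f : S'' ⟶ S') (g : S' ⟶ S) (h : S'' ⟶ S) (hc : f ≫ g = h) {A : Over S'} {A₀ : Over S}
    (lam : A ⟶ Red.bc g A₀) :
    ((Over.pullback f).map lam ≫ (Over.pullbackComp f g).inv.app A₀ ≫ eqToHom (congrArg (fun φ => Red.bc φ A₀) hc) :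
        Red.bc f A ⟶ Red.bc h A₀).left ≫ pullback.fst A₀.hom h =
      pullback.fst A.hom f ≫ lam.left ≫ pullback.fst A₀.hom g := by
  subst hc
  rw [eqToHom_refl, Category.comp_id, Over.comp_left, Category.assoc, comp_inv_fst]
  simp [Over.pullback_map_left]

/-- A base changed map followed by the comparison. -/
theorem bcComp_eq (f : S'' ⟶ S') (g : S' ⟶ S) (h : S'' ⟶ S) (hc : f ≫ g = h) {A : Over S'} {A₀ : Over S}
    (lam : A ⟶ Red.bc g A₀) :
    ((Over.pullback f).map lam ≫ (Over.pullbackComp f g).inv.app A₀ ≫ eqToHom (congrArg (fun φ => Red.bc φ A₀) hc) :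
        Red.bc f A ⟶ Red.bc h A₀) = ((Over.pullback f).map lam ≫ (cmp hc A₀).hom : Red.bc f A ⟶ Red.bc h A₀) := rfl

/-- The comparison followed by a base changed map. -/
theorem compBc_eq (f : S'' ⟶ S') (g : S' ⟶ S) (h : S'' ⟶ S) (hc : f ≫ g = h) {A : Over S'} {A₀ : Over S}
    (tau : Red.bc g A₀ ⟶ A) :
    (eqToHom (congrArg (fun φ => Red.bc φ A₀) hc.symm) ≫ (Over.pullbackComp f g).hom.app A₀ ≫ (Over.pullback f).map tau :
        Red.bc h A₀ ⟶ Red.bc f A) = ((cmp hc A₀).inv ≫ (Over.pullback f).map tau : Red.bc h A₀ ⟶ Red.bc f A) :=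
  (Category.assoc _ _ _).symm

/-- A map, its successor base changed and the comparison. -/
theorem bcComp_eq' (f : S'' ⟶ S') (g : S' ⟶ S) (h : S'' ⟶ S) (hc : f ≫ g = h) {A' : Over S''} {A : Over S'}
    {A₀ : Over S} (lam₁ : A' ⟶ Red.bc f A) (lam : A ⟶ Red.bc g A₀) :
    (lam₁ ≫ (Over.pullback f).map lam ≫ (Over.pullbackComp f g).inv.app A₀ ≫
        eqToHom (congrArg (fun φ => Red.bc φ A₀) hc) : A' ⟶ Red.bc h A₀) =
      lam₁ ≫ (Over.pullback f).map lam ≫ (cmp hc A₀).hom := rfl

/-- The comparison, a base changed map and its successor. -/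
theorem compBc_eq' (f : S'' ⟶ S') (g : S' ⟶ S) (h : S'' ⟶ S) (hc : f ≫ g = h) {A' : Over S''} {A : Over S'}
    {A₀ : Over S} (tau : Red.bc g A₀ ⟶ A) (tau₁ : Red.bc f A ⟶ A') :
    (eqToHom (congrArg (fun φ => Red.bc φ A₀) hc.symm) ≫ (Over.pullbackComp f g).hom.app A₀ ≫
        (Over.pullback f).map tau ≫ tau₁ : Red.bc h A₀ ⟶ A') = (cmp hc A₀).inv ≫ (Over.pullback f).map tau ≫ tau₁ :=
  (Category.assoc _ _ _).symm

section generic

variable (f : S'' ⟶ S') (g : S' ⟶ S) (h : S'' ⟶ S) (hc : f ≫ g = h)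

theorem isMonHom_map {A B : Over S'} [GrpObj A] [GrpObj B] (lam : A ⟶ B) [IsMonHom lam] :
    IsMonHom ((Over.pullback f).map lam : Red.bc f A ⟶ Red.bc f B) :=
  inferInstanceAs (IsMonHom ((Over.pullback f).map lam))

theorem isMonHom_map_cmp {A : Over S'} [GrpObj A] {A₀ : Over S} [GrpObj A₀] (lam : A ⟶ Red.bc g A₀)
    (hl : IsMonHom lam) (hm : IsMonHom (cmp hc A₀).hom) :
    IsMonHom ((Over.pullback f).map lam ≫ (cmp hc A₀).hom : Red.bc f A ⟶ Red.bc h A₀) := by
  haveI := hl
  haveI := hm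
  haveI := isMonHom_map f lam
  infer_instance

theorem isMonHom_comp_map_cmp {A' : Over S''} [GrpObj A'] {A : Over S'} [GrpObj A] {A₀ : Over S} [GrpObj A₀]
    (lam₁ : A' ⟶ Red.bc f A) (h1 : IsMonHom lam₁) (lam : A ⟶ Red.bc g A₀)
    (hl : IsMonHom lam) (hm : IsMonHom (cmp hc A₀).hom) :
    IsMonHom (lam₁ ≫ (Over.pullback f).map lam ≫ (cmp hc A₀).hom : A' ⟶ Red.bc h A₀) := by
  haveI := h1
  haveI := isMonHom_map_cmp f g h hc lam hl hm
  infer_instance

theorem isMonHom_cmp_map {A : Over S'} [GrpObj A] {A₀ : Over S} [GrpObj A₀] (tau : Red.bc g A₀ ⟶ A)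
    (hl : IsMonHom tau) (hm : IsMonHom (cmp hc A₀).inv) :
    IsMonHom ((cmp hc A₀).inv ≫ (Over.pullback f).map tau : Red.bc h A₀ ⟶ Red.bc f A) := by
  haveI := hl
  haveI := hm
  haveI := isMonHom_map f tau
  infer_instance

theorem isMonHom_cmp_map_comp {A' : Over S''} [GrpObj A'] {A : Over S'} [GrpObj A] {A₀ : Over S} [GrpObj A₀]
    (tau : Red.bc g A₀ ⟶ A) (hl : IsMonHom tau) (hm : IsMonHom (cmp hc A₀).inv) (tau₁ : Red.bc f A ⟶ A')
    (h1 : IsMonHom tau₁) :
    IsMonHom ((cmp hc A₀).inv ≫ (Over.pullback f).map tau ≫ tau₁ : Red.bc h A₀ ⟶ A') := by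
  haveI := hl
  haveI := hm
  haveI := h1
  haveI := isMonHom_map f tau
  infer_instance

theorem surjective_map_cmp {A : Over S'} {A₀ : Over S} (lam : A ⟶ Red.bc g A₀)
    (hs : Surjective ((Over.pullback f).map lam).left) :
    Surjective ((Over.pullback f).map lam ≫ (cmp hc A₀).hom : Red.bc f A ⟶ Red.bc h A₀).left := by
  haveI := hs
  haveI : IsIso (cmp hc A₀).hom.left := inferInstanceAs (IsIso ((Over.forget _).map (cmp hc A₀).hom))
  simp only [Over.comp_left]
  infer_instance

theorem surjective_comp_map_cmp {A' : Over S''} {A : Over S'} {A₀ : Over S} (lam₁ : A' ⟶ Red.bc f A)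
    (h1 : Surjective lam₁.left) (lam : A ⟶ Red.bc g A₀) (hs : Surjective ((Over.pullback f).map lam).left) :
    Surjective (lam₁ ≫ (Over.pullback f).map lam ≫ (cmp hc A₀).hom : A' ⟶ Red.bc h A₀).left := by
  haveI := h1
  haveI := surjective_map_cmp f g h hc lam hs
  simp only [Over.comp_left] at *
  infer_instance

theorem isFinite_cmp_map {A : Over S'} {A₀ : Over S} (tau : Red.bc g A₀ ⟶ A)
    (hs : IsFinite ((Over.pullback f).map tau).left) :
    IsFinite ((cmp hc A₀).inv ≫ (Over.pullback f).map tau : Red.bc h A₀ ⟶ Red.bc f A).left := by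
  haveI := hs
  haveI : IsIso (cmp hc A₀).inv.left := inferInstanceAs (IsIso ((Over.forget _).map (cmp hc A₀).inv))
  simp only [Over.comp_left]
  infer_instance

theorem isFinite_cmp_map_comp {A' : Over S''} {A : Over S'} {A₀ : Over S} (tau : Red.bc g A₀ ⟶ A)
    (hs : IsFinite ((Over.pullback f).map tau).left) (tau₁ : Red.bc f A ⟶ A') (h1 : IsFinite tau₁.left) :
    IsFinite ((cmp hc A₀).inv ≫ (Over.pullback f).map tau ≫ tau₁ : Red.bc h A₀ ⟶ A').left := by
  haveI := hs
  haveI := h1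
  haveI : IsIso (cmp hc A₀).inv.left := inferInstanceAs (IsIso ((Over.forget _).map (cmp hc A₀).inv))
  simp only [Over.comp_left]
  infer_instance

theorem map_cmp_fac {A : Over S'} {A₀ B : Over S} (lam : A ⟶ Red.bc g A₀) (α₀ : A₀ ⟶ B) (α₁ : A ⟶ Red.bc g B)
    (α : Red.bc f A ⟶ Red.bc h B) (h2 : lam ≫ (Over.pullback g).map α₀ = α₁)
    (h1 : (Over.pullback f).map α₁ = α ≫ (cmp hc B).inv) :
    ((Over.pullback f).map lam ≫ (cmp hc A₀).hom : Red.bc f A ⟶ Red.bc h A₀) ≫ (Over.pullback h).map α₀ = α := by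
  rw [Category.assoc, ← cmp_naturality hc, ← (Over.pullback f).map_comp_assoc, h2, h1, Category.assoc,
    Iso.inv_hom_id, Category.comp_id]

theorem comp_map_cmp_fac {A' : Over S''} {A : Over S'} {A₀ B : Over S} (lam₁ : A' ⟶ Red.bc f A)
    (lam : A ⟶ Red.bc g A₀) (α₀ : A₀ ⟶ B) (α₁ : A ⟶ Red.bc g B) (α : A' ⟶ Red.bc h B)
    (h2 : lam ≫ (Over.pullback g).map α₀ = α₁) (h1 : lam₁ ≫ (Over.pullback f).map α₁ = α ≫ (cmp hc B).inv) :
    (lam₁ ≫ (Over.pullback f).map lam ≫ (cmp hc A₀).hom : A' ⟶ Red.bc h A₀) ≫ (Over.pullback h).map α₀ = α := by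
  rw [Category.assoc, Category.assoc, ← cmp_naturality hc, ← (Over.pullback f).map_comp_assoc, h2, ← Category.assoc,
    h1, Category.assoc, Iso.inv_hom_id, Category.comp_id]

theorem cmp_map_fac {A : Over S'} {A₀ B : Over S} (tau : Red.bc g A₀ ⟶ A) (β₀ : B ⟶ A₀) (β₁ : Red.bc g B ⟶ A)
    (β : Red.bc h B ⟶ Red.bc f A) (h2 : (Over.pullback g).map β₀ ≫ tau = β₁)
    (h1 : (Over.pullback f).map β₁ = (cmp hc B).hom ≫ β) :
    (Over.pullback h).map β₀ ≫ ((cmp hc A₀).inv ≫ (Over.pullback f).map tau : Red.bc h A₀ ⟶ Red.bc f A) = β := by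
  rw [← cmp_inv_naturality_assoc hc, ← (Over.pullback f).map_comp, h2, h1, Iso.inv_hom_id_assoc]

theorem cmp_map_comp_fac {A' : Over S''} {A : Over S'} {A₀ B : Over S} (tau : Red.bc g A₀ ⟶ A)
    (tau₁ : Red.bc f A ⟶ A') (β₀ : B ⟶ A₀) (β₁ : Red.bc g B ⟶ A) (β : Red.bc h B ⟶ A')
    (h2 : (Over.pullback g).map β₀ ≫ tau = β₁) (h1 : (Over.pullback f).map β₁ ≫ tau₁ = (cmp hc B).hom ≫ β) :
    (Over.pullback h).map β₀ ≫ ((cmp hc A₀).inv ≫ (Over.pullback f).map tau ≫ tau₁ : Red.bc h A₀ ⟶ A') = β := by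
  rw [← cmp_inv_naturality_assoc hc, ← (Over.pullback f).map_comp_assoc, h2, h1, Iso.inv_hom_id_assoc]

end generic

end Groth.Agent.H25Chow
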