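import Groth.Agent.H25Chow.Quot
import Groth.Agent.H19Grp.NeutralUnivOpen
import Groth.Agent.H19Grp.ArtinHom

/-!
# The kernel of the image is connected
-/

set_option autoImplicit false
set_option linter.style.haveILetI false
set_option linter.unusedSectionVars false
set_option backward.isDefEq.respectTransparency false
set_option synthInstance.maxHeartbeats 400000
set_option maxHeartbeats 1000000
universe u

open CategoryTheory CategoryTheory.Limits MonoidalCategory CartesianMonoidalCategory MonObj GrpObj AlgebraicGeometry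
open TopologicalSpace
open Groth.Agent Groth.Agent.H25AbCube

noncomputable section

namespace Groth.Agent.H25Chow

/-- A sober Noetherian space of dimension zero is discrete. -/
theorem discreteTopology_of_dim_zero {X : Type u} [TopologicalSpace X] [NoetherianSpace X] [QuasiSober X] [T0Space X]
    (h : topologicalKrullDim X ≤ 0) : DiscreteTopology X := by
  have hmin : ∀ a b : IrreducibleCloseds X, a ≤ b → a = b := fun a b hab =>
    le_antisymm hab ((Order.krullDim_nonpos_iff_forall_isMax.1 h a) hab)
  have hcl : ∀ x : X, irreducibleComponent x = closure {x} := fun x => by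
    have := hmin ⟨closure {x}, isIrreducible_singleton.closure, isClosed_closure⟩
      ⟨irreducibleComponent x, isIrreducible_irreducibleComponent, isClosed_irreducibleComponent⟩
      (closure_minimal (Set.singleton_subset_iff.2 mem_irreducibleComponent) isClosed_irreducibleComponent)
    exact (congrArg (fun s : IrreducibleCloseds X => (s : Set X)) this).symm
  have hinj : Function.Injective fun x : X =>
      (⟨irreducibleComponent x, irreducibleComponent_mem_irreducibleComponents x⟩ : irreducibleComponents X) := by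
    intro x y hxy
    have h1 : closure ({x} : Set X) = closure {y} :=
      (hcl x).symm.trans ((congrArg Subtype.val hxy).trans (hcl y))
    exact (inseparable_iff_closure_eq.2 h1).eq
  haveI : Finite (irreducibleComponents X) := NoetherianSpace.finite_irreducibleComponents.to_subtype
  haveI : Finite X := Finite.of_injective _ hinj
  haveI : T1Space X := ⟨fun x => isClosed_of_closure_subset fun y hy => by
    have h1 := hmin ⟨closure {y}, isIrreducible_singleton.closure, isClosed_closure⟩
      ⟨closure {x}, isIrreducible_singleton.closure, isClosed_closure⟩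
      (closure_minimal (Set.singleton_subset_iff.2 hy) isClosed_closure)
    exact (inseparable_iff_closure_eq.2 (congrArg (fun s : IrreducibleCloseds X => (s : Set X)) h1)).eq⟩
  infer_instance

variable {k : Type u} [Field k]

/-- A group scheme of finite type with open origin is discrete. -/
theorem discreteTopology_of_open_unit (G : Over (Spec (CommRingCat.of k))) [GrpObj G] [LocallyOfFiniteType G.hom]
    [QuasiCompact G.hom] [IsClosedImmersion η[G].left] [IsOpenImmersion η[G].left] : DiscreteTopology ↥G.left := by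
  let e := η[G].left (IsLocalRing.closedPoint k)
  haveI : IsLocallyNoetherian G.left := LocallyOfFiniteType.isLocallyNoetherian G.hom
  haveI : CompactSpace G.left := QuasiCompact.compactSpace_of_compactSpace G.hom
  haveI : IsNoetherian G.left := {}
  have hr : Set.range η[G].left = {e} := by
    ext z
    constructor
    · rintro ⟨o, rfl⟩
      exact congrArg η[G].left (Subsingleton.elim (α := PrimeSpectrum k) _ _)
    · rintro rfl
      exact ⟨_, rfl⟩
  have hclopen : IsClopen ({e} : Set G.left) :=
    ⟨hr ▸ η[G].left.isClosedEmbedding.isClosed_range, hr ▸ η[G].left.isOpenEmbedding.isOpen_range⟩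
  have hcomp : connectedComponent e = {e} :=
    Set.Subset.antisymm (hclopen.connectedComponent_subset rfl) (Set.singleton_subset_iff.2 mem_connectedComponent)
  have hfib : G.hom ⁻¹' {IsLocalRing.closedPoint k} = Set.univ :=
    Set.eq_univ_of_forall fun z => Subsingleton.elim (α := PrimeSpectrum k) _ _
  have hd := H19Grp.dim_neutralAt G (IsLocalRing.closedPoint k)
  rw [hfib, connectedComponentIn_univ, hcomp] at hd
  refine discreteTopology_of_dim_zero ?_
  rw [← (Homeomorph.Set.univ G.left).isHomeomorph.topologicalKrullDim_eq, ← hd]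
  haveI : Subsingleton ↥({e} : Set G.left) := inferInstance
  exact Order.krullDim_nonpos_iff_forall_isMax.2 fun a b _ => le_of_eq <| IrreducibleCloseds.ext <| by
    obtain ⟨x, hx⟩ := a.isIrreducible.nonempty
    obtain ⟨y, hy⟩ := b.isIrreducible.nonempty
    ext z
    rw [Subsingleton.elim z x]
    exact ⟨fun _ => hx, fun _ => Subsingleton.elim x y ▸ hy⟩

/-- A homomorphism whose kernel has open origin is finite. -/
theorem isFinite_of_open_unit {M Y G : Over (Spec (CommRingCat.of k))} [GrpObj M] [IsProper M.hom] [GrpObj Y]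
    [IsSeparated Y.hom] [GrpObj G] (g : M ⟶ Y) [IsMonHom g] {iG : G ⟶ M} [IsClosedImmersion iG.left]
    (hker : AlgGrp.IsKernel iG g) [IsOpenImmersion η[G].left] : IsFinite g.left := by
  haveI : IsProper (g.left ≫ Y.hom) := by rw [Over.w g]; infer_instance
  haveI : IsProper g.left := IsProper.of_comp g.left Y.hom
  haveI : IsProper G.hom := by rw [← Over.w iG]; infer_instance
  haveI : IsClosedImmersion η[G].left := isClosedImmersion_one G
  haveI := discreteTopology_of_open_unit G
  let e : G.left ≅ pullback g.left η[Y].left := (hker.map (Over.forget _)).isoPullback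
  haveI : DiscreteTopology ↥(pullback g.left η[Y].left) := e.hom.homeomorph.discreteTopology
  haveI hN : LocallyQuasiFinite (pullback.snd g.left η[Y].left) := by
    rw [locallyQuasiFinite_iff_isDiscrete_preimage_singleton]
    intro y
    exact ⟨inferInstance⟩
  haveI := H19Grp.ArtinHom.lqf_of_kernel g hN
  exact IsFinite.of_isProper_of_locallyQuasiFinite g.left

variable {K : Type u} [Field K] [Algebra k K]

theorem comp_lemma {A : Over (Spec (CommRingCat.of K))} [GrpObj A] {N : Over (Spec (CommRingCat.of K))}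
    {X Y : Over (Spec (CommRingCat.of K))} [GrpObj X] [GrpObj Y] (iN : N ⟶ A) (lam : A ⟶ X) (m : X ⟶ Y) [IsMonHom m]
    (α : A ⟶ Y) (h : iN ≫ lam = 1) (hfac : lam ≫ m = α) : iN ≫ α = 1 := by
  rw [← hfac, ← Category.assoc, h, MonObj.one_comp]

/-- The kernel of the image is connected. -/
theorem connectedSpace_kernel (hK : AbVar.IsPrimaryExt k K)
    (A : Over (Spec (CommRingCat.of K))) [GrpObj A] [IsProper A.hom] [GeometricallyIntegral A.hom]
    (A₀ : Over (Spec (CommRingCat.of k))) [GrpObj A₀] [IsProper A₀.hom] [GeometricallyIntegral A₀.hom]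
    (lam : A ⟶ Red.bc (AbVar.ext k K) A₀) (h : AbVar.IsChowImage k K A A₀ lam) :
    ConnectedSpace ↥(pullback lam.left η[Red.bc (AbVar.ext k K) A₀].left) := by
  let F := Over.pullback (AbVar.ext k K)
  let Y := Red.bc (AbVar.ext k K) A₀
  haveI := h.isMonHom
  haveI := h.surjective
  haveI : IsCommMonObj A := isCommMonObj_of_av
  haveI : IsCommMonObj A₀ := isCommMonObj_of_av
  haveI : IsProper Y.hom := MorphismProperty.pullback_snd _ _ inferInstance
  haveI : GeometricallyIntegral Y.hom := MorphismProperty.pullback_snd _ _ inferInstance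
  haveI : IsCommMonObj Y := isCommMonObj_of_av
  obtain ⟨N, gN, iN, hiN, hiNc, hkerN⟩ := H19Grp.AffineQuotient.exists_kernel lam
  haveI := hiN; haveI := hiNc
  haveI : Mono iN := Over.mono_of_mono_left _
  haveI : LocallyOfFiniteType N.hom := by rw [← Over.w iN]; infer_instance
  obtain ⟨gN0, hN0⟩ := H19Grp.exists_grpObj_idComp N
  haveI := hN0
  let iN0 := H19Grp.idCompι N
  haveI : IsClosedImmersion (iN0 ≫ iN).left := inferInstanceAs (IsClosedImmersion (iN0.left ≫ iN.left))
  haveI : IsOpenImmersion iN0.left := by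
    haveI : Flat iN0.left := H19Grp.flat_clopenIdeal_subschemeι _
    haveI : IsLocallyNoetherian N.left := LocallyOfFiniteType.isLocallyNoetherian N.hom
    haveI : LocallyOfFinitePresentation iN0.left := inferInstance
    exact IsOpenImmersion.of_flat_of_mono _
  obtain ⟨M, gM, qM, hM1, hM2, hqM, hqMf, hqMs, hqMc, hkerM⟩ := exists_av_quotient (iN0 ≫ iN)
  haveI := hM1; haveI := hM2; haveI := hqM; haveI := hqMf; haveI := hqMs; haveI := hqMc
  haveI : IsCommMonObj M := isCommMonObj_of_av
  obtain ⟨g, hg, hgfac, -⟩ := H19Grp.exists_monHom_desc qM hkerM lam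
    (by rw [Category.assoc, H19Grp.kernel_comp_eq_one hkerN, MonObj.comp_one, Hom.one_def])
  haveI := hg
  haveI : Surjective g.left := by
    haveI : Surjective (qM.left ≫ g.left) := by rw [← Over.comp_left, hgfac]; infer_instance
    exact Surjective.of_comp qM.left g.left
  obtain ⟨G, gG, iG, hiG, hiGc, hkerG⟩ := H19Grp.AffineQuotient.exists_kernel g
  haveI := hiG; haveI := hiGc
  haveI : Mono iG := Over.mono_of_mono_left _
  -- the quotient of the kernel by its identity component
  obtain ⟨qN, hqN⟩ := H19Grp.kernel_lift hkerG (iN ≫ qM)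
    (by rw [Category.assoc, hgfac, H19Grp.kernel_comp_eq_one hkerN])
  have key : ∀ c : PullbackCone qM iG, ∃ l : c.pt ⟶ N, l ≫ iN = c.fst := fun c => H19Grp.kernel_lift hkerN c.fst (by
    rw [← hgfac, ← Category.assoc, c.condition, Category.assoc, H19Grp.kernel_comp_eq_one hkerG, MonObj.comp_one])
  have hsqN : IsPullback iN qN qM iG := by
    refine IsPullback.of_isLimit' ⟨hqN.symm⟩ (PullbackCone.IsLimit.mk hqN.symm
      (fun c => (key c).choose) (fun c => (key c).choose_spec) (fun c => ?_) (fun c m hm _ => ?_))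
    · rw [← cancel_mono iG, Category.assoc, hqN, ← Category.assoc, (key c).choose_spec, c.condition]
    · rw [← cancel_mono iN, hm, (key c).choose_spec]
  have hkerqN : AlgGrp.IsKernel iN0 qN := H19Grp.isKernel_of
    (by rw [← cancel_mono iG, Category.assoc, hqN, ← Category.assoc, H19Grp.kernel_comp_eq_one hkerM, MonObj.one_comp])
    (fun T a b hab => (cancel_mono iN0).1 hab)
    (fun T x hx => by
      obtain ⟨n, hn⟩ := H19Grp.kernel_lift hkerM (x ≫ iN)
        (by rw [Category.assoc, ← hqN, ← Category.assoc, hx, MonObj.one_comp])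
      exact ⟨n, by rw [← cancel_mono iN, Category.assoc, hn]⟩)
  haveI : IsSeparated G.hom := H19Grp.AffineQuotient.isSeparated_of_grp G
  haveI : IsClosedImmersion η[G].left := isClosedImmersion_one G
  haveI : IsOpenImmersion η[G].left := by
    have hsq := (hkerqN.map (Over.forget _)).flip
    haveI : Flat η[G].left := by
      haveI hqNf : Flat qN.left := MorphismProperty.of_isPullback (P := @Flat) (hsqN.map (Over.forget _)) hqMf
      haveI hqNs : Surjective qN.left :=
        MorphismProperty.of_isPullback (P := @Surjective) (hsqN.map (Over.forget _)) hqMs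
      haveI hqNc : QuasiCompact qN.left :=
        MorphismProperty.of_isPullback (P := @QuasiCompact) (hsqN.map (Over.forget _)) hqMc
      exact MorphismProperty.of_isPullback_of_descendsAlong (P := @Flat)
        (Q := @Surjective ⊓ @Flat ⊓ @QuasiCompact) (hkerqN.map (Over.forget _))
        ⟨⟨hqNs, hqNf⟩, hqNc⟩ (inferInstanceAs (Flat iN0.left))
    haveI : LocallyOfFiniteType G.hom := by rw [← Over.w iG]; infer_instance
    haveI : IsLocallyNoetherian G.left := LocallyOfFiniteType.isLocallyNoetherian G.hom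
    haveI : LocallyOfFinitePresentation η[G].left := inferInstance
    exact IsOpenImmersion.of_flat_of_mono _
  haveI : IsFinite g.left := isFinite_of_open_unit g hkerG
  obtain ⟨n, hn, ψ, hψ, hgψ, hψg⟩ := exists_isogeny_inverse g
  haveI := hψ
  -- the kernel of `ψ` is open in the `n`-torsion
  haveI : IsMonHom ((𝟙 A₀) ^ n : A₀ ⟶ A₀) := isMonHom_pow n
  haveI : IsFinite ((𝟙 A₀) ^ n : A₀ ⟶ A₀).left := isFinite_pow hn
  obtain ⟨P, gP, iP, hiP, hiPc, hkerP⟩ := H19Grp.AffineQuotient.exists_kernel ((𝟙 A₀) ^ n : A₀ ⟶ A₀)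
  haveI := hiP; haveI := hiPc
  haveI : Mono iP := Over.mono_of_mono_left _
  haveI : IsFinite P.hom := isFinite_kernel _ hkerP
  let iPK : Red.bc (AbVar.ext k K) P ⟶ Y := F.map iP
  haveI : IsMonHom iPK := inferInstanceAs (IsMonHom (F.map iP))
  haveI : IsClosedImmersion iPK.left :=
    MorphismProperty.of_isPullback (P := @IsClosedImmersion) (H19Grp.isPullback_map (AbVar.ext k K) iP) ‹_›
  haveI : Mono iPK := Over.mono_of_mono_left _
  have hpow : (F.map ((𝟙 A₀) ^ n : A₀ ⟶ A₀) : Y ⟶ Y) = (𝟙 Y) ^ n :=
    (map_pow (Functor.homMonoidHom F) (𝟙 A₀) n).trans (congrArg (· ^ n) (F.map_id A₀))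
  have hiPn : iPK ≫ ((𝟙 Y) ^ n : Y ⟶ Y) = 1 := by
    rw [← hpow]
    exact (F.map_comp _ _).symm.trans ((congrArg F.map (H19Grp.kernel_comp_eq_one hkerP)).trans
      (map_one (Functor.homMonoidHom F)))
  obtain ⟨H', gH', iH', hiH', hiH'c, hkerψ⟩ := H19Grp.AffineQuotient.exists_kernel ψ
  haveI := hiH'; haveI := hiH'c
  haveI : Mono iH' := Over.mono_of_mono_left _
  have hH'n : iH' ≫ ((𝟙 Y) ^ n : Y ⟶ Y) = 1 := by
    rw [← hψg, ← Category.assoc, H19Grp.kernel_comp_eq_one hkerψ, MonObj.one_comp]
  obtain ⟨j, hj⟩ := bc_kernel_lift (AbVar.ext k K) hkerP iH' (by rw [hpow]; exact hH'n)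
  have hj' : j ≫ iPK = iH' := hj
  haveI : IsMonHom j := by
    refine ⟨?_, ?_⟩
    · rw [← cancel_mono iPK, Category.assoc, hj', IsMonHom.one_hom iH', IsMonHom.one_hom iPK]
    · rw [← cancel_mono iPK, Category.assoc, Category.assoc, hj', IsMonHom.mul_hom iH', IsMonHom.mul_hom iPK,
        tensorHom_comp_tensorHom_assoc, hj']
  haveI : IsClosedImmersion j.left := by
    haveI : IsClosedImmersion (j.left ≫ iPK.left) := by rw [← Over.comp_left, hj']; infer_instance
    exact IsClosedImmersion.of_comp j.left iPK.left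
  obtain ⟨w, hw⟩ := H19Grp.kernel_lift hkerG (iPK ≫ ψ) (by rw [Category.assoc, hψg, hiPn])
  have hkerw : AlgGrp.IsKernel j w := H19Grp.isKernel_of
    (by rw [← cancel_mono iG, Category.assoc, hw, ← Category.assoc, hj', H19Grp.kernel_comp_eq_one hkerψ,
      MonObj.one_comp])
    (fun T a b hab => by rw [← cancel_mono iH', ← hj', ← Category.assoc, ← Category.assoc, hab])
    (fun T x hx => by
      obtain ⟨m, hm⟩ := H19Grp.kernel_lift hkerψ (x ≫ iPK)
        (by rw [Category.assoc, ← hw, ← Category.assoc, hx, MonObj.one_comp])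
      exact ⟨m, by rw [← cancel_mono iPK, Category.assoc, hj', hm]⟩)
  haveI : IsOpenImmersion j.left :=
    MorphismProperty.of_isPullback (P := @IsOpenImmersion) (hkerw.map (Over.forget _)).flip ‹_›
  obtain ⟨H, gH, iH, hiH, hiHc, ⟨t, ht⟩, s, hs⟩ := exists_clopen_descent hK j
  haveI := hiH; haveI := hiHc
  haveI : IsClosedImmersion (iH ≫ iP).left := inferInstanceAs (IsClosedImmersion (iH.left ≫ iP.left))
  obtain ⟨C, gC, qC, hC1, hC2, hqC, hqCf, hqCs, hqCc, hkerC⟩ := exists_av_quotient (iH ≫ iP)
  haveI := hC1; haveI := hC2; haveI := hqC; haveI := hqCf; haveI := hqCs; haveI := hqCc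
  let Z := Red.bc (AbVar.ext k K) C
  haveI : IsProper Z.hom := MorphismProperty.pullback_snd _ _ inferInstance
  haveI : GeometricallyIntegral Z.hom := MorphismProperty.pullback_snd _ _ inferInstance
  let qK : Y ⟶ Z := F.map qC
  haveI : IsMonHom qK := inferInstanceAs (IsMonHom (F.map qC))
  haveI : Flat qK.left :=
    MorphismProperty.of_isPullback (P := @Flat) (H19Grp.isPullback_map (AbVar.ext k K) qC) ‹_›
  haveI : Surjective qK.left := surjective_map qC
  haveI : QuasiCompact qK.left :=
    MorphismProperty.of_isPullback (P := @QuasiCompact) (H19Grp.isPullback_map (AbVar.ext k K) qC) ‹_›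
  obtain ⟨φ, hφ, -⟩ := H19Grp.existsUnique_desc_over qK ψ fun T a b hab => by
    have hd : (a / b) ≫ qK = 1 := by rw [GrpObj.div_comp, hab, div_self']
    obtain ⟨s', hs'⟩ := bc_kernel_lift (AbVar.ext k K) hkerC (a / b) hd
    have h3 : (a / b) ≫ ψ = 1 := by
      have h4 : s' ≫ t ≫ j ≫ iPK = a / b := by
        rw [← hs', F.map_comp, ← ht, Category.assoc]
      rw [← h4, hj', Category.assoc, Category.assoc, H19Grp.kernel_comp_eq_one hkerψ, MonObj.comp_one,
        MonObj.comp_one]
    rwa [GrpObj.div_comp, div_eq_one] at h3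
  haveI : Surjective ψ.left := by
    refine ⟨fun m => ?_⟩
    haveI : Surjective ((g ≫ ψ : M ⟶ M)).left := by rw [hgψ]; exact surjective_pow hn
    obtain ⟨x, hx⟩ := (g ≫ ψ : M ⟶ M).left.surjective m
    exact ⟨g.left x, hx⟩
  haveI : GrpObj (Over.mk M.hom) := inferInstanceAs (GrpObj M)
  haveI : Smooth M.hom := smooth_of_grpObj M.hom
  haveI : QuasiCompact ψ.left := by
    haveI : QuasiCompact (ψ.left ≫ M.hom) := by rw [Over.w ψ]; infer_instance
    exact QuasiCompact.of_comp _ M.hom
  haveI : Flat ψ.left := H19Grp.flat_of_surjective ψ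
  have hkillC : iH' ≫ qK = 1 := by
    have h1 : iH' = s ≫ (F.map (iH ≫ iP) : Red.bc (AbVar.ext k K) H ⟶ Y) := by
      rw [← hj', ← hs, Category.assoc]
      exact congrArg (s ≫ ·) (F.map_comp _ _).symm
    rw [h1, Category.assoc]
    exact (congrArg (s ≫ ·) ((F.map_comp _ _).symm.trans ((congrArg F.map (H19Grp.kernel_comp_eq_one hkerC)).trans
      (map_one (Functor.homMonoidHom F))))).trans (MonObj.comp_one _)
  obtain ⟨φ', hφ', hφ'fac, -⟩ := H19Grp.exists_monHom_desc ψ hkerψ qK (by rw [hkillC, Hom.one_def])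
  haveI := hφ'
  haveI : Epi ψ := H19Grp.epi_over_of_fpqc ψ
  have hid : φ' ≫ φ = 𝟙 M := (cancel_epi ψ).1 (by rw [← Category.assoc, hφ'fac, hφ, Category.comp_id])
  haveI : IsMonHom φ := H25Rig.isMonHom_of_one_hom _ (by
    rw [← IsMonHom.one_hom (f := qK), Category.assoc, hφ, IsMonHom.one_hom ψ])
  obtain ⟨α₀, hα₀, hfac⟩ := h.fac C (qM ≫ φ')
  haveI : IsMonHom (F.map α₀ : Y ⟶ Z) := inferInstanceAs (IsMonHom (F.map α₀))
  have h1 : iN ≫ qM ≫ φ' = 1 :=
    comp_lemma iN lam (F.map α₀ : Y ⟶ Z) (qM ≫ φ') (H19Grp.kernel_comp_eq_one hkerN) hfac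
  have h2 : iN ≫ qM = 1 := by
    have h3 := congrArg (fun w : N ⟶ Z => w ≫ φ) h1
    simp only [Category.assoc, hid, Category.comp_id, MonObj.one_comp] at h3
    exact h3
  obtain ⟨v, hv⟩ := H19Grp.kernel_lift hkerM iN h2
  have hvid : v ≫ iN0 = 𝟙 N := by rw [← cancel_mono iN, Category.assoc, hv, Category.id_comp]
  haveI : ConnectedSpace ↥N.left := by
    rw [connectedSpace_iff_univ]
    have hu : connectedComponent (H19Grp.ept N) = Set.univ := by
      refine Set.eq_univ_of_forall fun z => ?_
      rw [← H19Grp.range_idCompι_ept]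
      exact ⟨v.left z, congrArg (fun w : N ⟶ N => w.left z) hvid⟩
    rw [← hu]
    exact isConnected_connectedComponent
  let e : N.left ≅ pullback lam.left η[Y].left := (hkerN.map (Over.forget _)).isoPullback
  exact e.hom.homeomorph.surjective.connectedSpace e.hom.continuous

end Groth.Agent.H25Chow
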