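import Groth.Agent.H06Red.Scheme
import Groth.Agent.H06Red.Algebra

/-!
# Geometric reducedness from a dense set of points
-/

set_option autoImplicit false
set_option linter.style.haveILetI false
set_option linter.unusedSectionVars false
set_option backward.isDefEq.respectTransparency false
universe u

open CategoryTheory CategoryTheory.Limits AlgebraicGeometry
open Groth.Agent
open scoped TensorProduct

noncomputable section

namespace Groth.Agent.H25Chow

/-- An algebra with jointly injective maps to geometrically reduced algebras is geometrically reduced. -/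
theorem isGeometricallyReduced_of_family {k R : Type u} [Field k] [CommRing R] [Algebra k R] {α : Type*}
    (κ : α → Type u) [∀ i, CommRing (κ i)] [∀ i, Algebra k (κ i)] (e : ∀ i, R →ₐ[k] κ i)
    (hinj : ∀ r : R, (∀ i, e i r = 0) → r = 0) (hκ : ∀ i, Algebra.IsGeometricallyReduced k (κ i)) :
    Algebra.IsGeometricallyReduced k R := by
  rw [Algebra.isGeometricallyReduced_field_iff]
  let L := AlgebraicClosure k
  classical
  let b := Module.Basis.ofVectorSpace k L
  refine ⟨fun z hz => ?_⟩
  have h0 : ∀ i, Algebra.TensorProduct.map (AlgHom.id k L) (e i) z = 0 := fun i => by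
    haveI : IsReduced (L ⊗[k] κ i) := (Algebra.isGeometricallyReduced_field_iff k (κ i)).1 (hκ i)
    exact (hz.map _).eq_zero
  let E := TensorProduct.equivFinsuppOfBasisLeft (N := R) b
  apply E.injective
  rw [map_zero]
  ext j
  refine hinj _ fun i => ?_
  have key : ∀ w : L ⊗[k] R, e i (E w j) =
      TensorProduct.equivFinsuppOfBasisLeft (N := κ i) b (Algebra.TensorProduct.map (AlgHom.id k L) (e i) w) j := by
    intro w
    induction w using TensorProduct.induction_on with
    | zero => simp
    | tmul l r => simp [E]
    | add x y hx hy => simp only [map_add, Finsupp.add_apply, hx, hy]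
  rw [key, h0 i, map_zero, Finsupp.zero_apply]

/-- A reduced scheme over a field with a dense set of points with geometrically reduced residue algebras is
geometrically reduced. -/
theorem geometricallyReduced_of_dense {k : Type u} [Field k] {X : Scheme.{u}} (f : X ⟶ Spec (CommRingCat.of k))
    [IsReduced X] (S : Set X) (hS : Dense S)
    (h : ∀ s ∈ S, ∃ (L : Type u) (_ : Field L) (_ : Algebra k L) (σ : Spec (CommRingCat.of L) ⟶ X),
      σ ≫ f = Spec.map (CommRingCat.ofHom (algebraMap k L)) ∧ σ (IsLocalRing.closedPoint L) = s ∧
        Algebra.IsGeometricallyReduced k L) : GeometricallyReduced f := by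
  refine ⟨geometrically_iff_of_isClosedUnderIsomorphisms.2 fun K _ y => ?_⟩
  have hmain : IsReduced (pullback y f) := by
    refine H06Red.isReduced_pullback_of_forall y f fun R i _ φ hφ => ?_
    letI := φ.hom.toAlgebra
    have : IsReduced (Spec R) := isReduced_of_isOpenImmersion i
    haveI : _root_.IsReduced R := (affine_isReduced_iff R).1 this
    have hT : Dense (i ⁻¹' S) := hS.preimage i.isOpenEmbedding.isOpenMap
    choose L hL hA σ hσ hs hg using fun t : ↥(i ⁻¹' S) => h (i t.1) t.2
    letI := hL; letI := hA
    have hr : ∀ t : ↥(i ⁻¹' S), Set.range (σ t) ⊆ Set.range i := fun t => by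
      rintro _ ⟨z, rfl⟩
      rw [Subsingleton.elim (α := PrimeSpectrum (L t)) z (IsLocalRing.closedPoint (L t)), hs]
      exact ⟨_, rfl⟩
    let ψ : ∀ t, R ⟶ CommRingCat.of (L t) := fun t => Spec.preimage (IsOpenImmersion.lift i (σ t) (hr t))
    have hψ : ∀ t, φ ≫ ψ t = CommRingCat.ofHom (algebraMap k (L t)) := fun t => by
      apply Spec.map_injective
      rw [Spec.map_comp, Spec.map_preimage, hφ, IsOpenImmersion.lift_fac_assoc, hσ]
    let e : ∀ t, R →ₐ[k] L t := fun t =>
      { (ψ t).hom with commutes' := fun c => ConcreteCategory.congr_hom (hψ t) c }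
    refine isGeometricallyReduced_of_family L e (fun r hr0 => ?_) hg
    have hpt : ∀ t : ↥(i ⁻¹' S), r ∈ t.1.asIdeal := fun t => by
      have h1 : i ((Spec.map (ψ t)) (IsLocalRing.closedPoint (L t))) = i t.1 := by
        rw [Spec.map_preimage, ← Scheme.Hom.comp_apply, IsOpenImmersion.lift_fac]
        exact hs t
      rw [← i.isOpenEmbedding.injective h1]
      show (ψ t).hom r ∈ IsLocalRing.maximalIdeal (L t)
      rw [show (ψ t).hom r = 0 from hr0 t]
      exact zero_mem _
    have hempty : (PrimeSpectrum.basicOpen r : Set (PrimeSpectrum R)) = ∅ := by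
      by_contra hne
      obtain ⟨q, hq, hqS⟩ := hT.inter_open_nonempty _ (PrimeSpectrum.basicOpen r).isOpen (Set.nonempty_iff_ne_empty.2 hne)
      exact hq (hpt ⟨q, hqS⟩)
    exact IsNilpotent.eq_zero (PrimeSpectrum.basicOpen_eq_bot_iff r |>.1 (SetLike.coe_injective (by rw [hempty]; rfl)))
  haveI := hmain
  exact isReduced_of_isOpenImmersion (pullbackSymmetry f y).hom

end Groth.Agent.H25Chow
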