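import Groth.Agent.H25Chow.IsogPts
import Groth.Agent.H25AbCube.Dense
import Groth.Agent.H19Grp.TangentPow

/-!
# Torsion subgroup schemes of prime power order are scheme-theoretically dense
-/

set_option autoImplicit false
set_option linter.style.haveILetI false
set_option linter.unusedSectionVars false
set_option backward.isDefEq.respectTransparency false
set_option synthInstance.maxHeartbeats 400000
set_option maxHeartbeats 1000000
universe u

open CategoryTheory CategoryTheory.Limits MonoidalCategory CartesianMonoidalCategory MonObj GrpObj AlgebraicGeometry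
open Groth.Agent Groth.Agent.H25AbCube

noncomputable section

namespace Groth.Agent.H25Chow

open _root_.Groth.Agent.H19Grp (unitPt unitEval unitStalkAlg)
open _root_.Groth.Agent.H19Grp.TangentPow

variable {k : Type u} [Field k] {X : Over (Spec (CommRingCat.of k))} [GrpObj X]

/-- In characteristic `p` multiplication by `p` kills the cotangent space. -/
theorem mem_sq_of_pow {p : ℕ} (hp : (p : k) = 0)
    (ψ : X.left.presheaf.stalk (unitPt X) ⟶ X.left.presheaf.stalk (unitPt X))
    (hψ : Spec.map ψ ≫ X.left.fromSpecStalk (unitPt X) = X.left.fromSpecStalk (unitPt X) ≫ ((𝟙 X) ^ p : X ⟶ X).left)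
    (f : X.left.presheaf.stalk (unitPt X)) (hf : (unitEval X).hom f = 0) :
    ψ.hom f ∈ IsLocalRing.maximalIdeal (X.left.presheaf.stalk (unitPt X)) ^ 2 := by
  let O := X.left.presheaf.stalk (unitPt X)
  let ev : O →+* k := (unitEval X).hom
  let c : k →+* O := (unitStalkAlg X).hom
  letI : Algebra k O := c.toAlgebra
  let u := X.left.fromSpecStalk (unitPt X)
  have hevc : ∀ a, ev (c a) = a := H19Grp.unitEval_alg X
  haveI : IsLocalHom ev := inferInstanceAs (IsLocalHom (Scheme.stalkClosedPointTo (R := CommRingCat.of k) η[X].left).hom)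
  have hker : ∀ a, ev a = 0 ↔ a ∈ IsLocalRing.maximalIdeal O := fun a => by
    rw [IsLocalRing.mem_maximalIdeal, mem_nonunits_iff]
    exact ⟨fun h hu => (hu.map ev).ne_zero h, fun h => by_contra fun hne => h (isUnit_of_map_unit ev a (Ne.isUnit hne))⟩
  let S : Submodule k O := (IsLocalRing.maximalIdeal O ^ 2).restrictScalars k ⊔ Submodule.span k {1}
  -- the tangent vector of a functional
  suffices key : ∀ l : Module.Dual k O, (∀ a ∈ IsLocalRing.maximalIdeal O ^ 2, l a = 0) → l 1 = 0 → l (ψ.hom f) = 0 by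
    have hψf : ev (ψ.hom f) = 0 := by
      have h1 : Spec.map (unitEval X) ≫ Spec.map ψ ≫ u = Spec.map (unitEval X) ≫ u := by
        rw [hψ, ← Category.assoc, H19Grp.specMap_unitEval, ← Over.comp_left, MonObj.comp_pow, Category.comp_id]
        rw [show η[X] = (1 : _ ⟶ X) by rw [Hom.one_def, toUnit_unique (toUnit _) (𝟙 _), Category.id_comp], one_pow]
      rw [← Category.assoc, cancel_mono, ← Spec.map_comp, Spec.map_inj] at h1
      exact (congrArg (fun g => g.hom f) h1).trans hf
    by_contra hmem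
    have hnot : ψ.hom f ∉ S := fun h => by
      obtain ⟨a, ha, b, hb, hab⟩ := Submodule.mem_sup.1 h
      obtain ⟨r, rfl⟩ := Submodule.mem_span_singleton.1 hb
      have ha0 : ev a = 0 := (hker a).2 (Ideal.pow_le_self two_ne_zero ha)
      have hr : r = 0 := by
        have h2 := congrArg ev hab
        rw [map_add, ha0, _root_.zero_add, hψf, Algebra.smul_def, _root_.mul_one] at h2
        exact (hevc r).symm.trans h2
      rw [hr, zero_smul, _root_.add_zero] at hab
      exact hmem (hab ▸ ha)
    obtain ⟨l, hl, hlS⟩ := Submodule.exists_dual_map_eq_bot_of_notMem hnot inferInstance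
    have h0 : ∀ a ∈ S, l a = 0 := fun a ha => (Submodule.mem_bot k).1 (hlS ▸ Submodule.mem_map_of_mem ha)
    exact hl (key l (fun a ha => h0 a (Submodule.mem_sup_left ha))
      (h0 1 (Submodule.mem_sup_right (Submodule.mem_span_singleton_self 1))))
  intro l hl2 hl1
  have hlc : ∀ a, l (c a) = 0 := fun a => by
    rw [show c a = a • (1 : O) by rw [Algebra.smul_def, _root_.mul_one]; rfl, map_smul, hl1, smul_zero]
  have hmul : ∀ a b, l (a * b) = ev a * l b + ev b * l a := fun a b => by
    have ha : ev (a - c (ev a)) = 0 := by rw [map_sub, hevc, sub_self]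
    have hb : ev (b - c (ev b)) = 0 := by rw [map_sub, hevc, sub_self]
    have h := hl2 _ (show (a - c (ev a)) * (b - c (ev b)) ∈ IsLocalRing.maximalIdeal O ^ 2 by
      rw [pow_two]; exact Ideal.mul_mem_mul ((hker _).1 ha) ((hker _).1 hb))
    rw [sub_mul, mul_sub, mul_sub, map_sub, map_sub, map_sub, ← map_mul c, hlc,
      show c (ev a) * b = ev a • b from rfl, show a * c (ev b) = ev b • a from mul_comm _ _, map_smul, map_smul,
      smul_eq_mul, smul_eq_mul] at h
    linear_combination h
  let v : O →+* TrivSqZeroExt k k :=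
    { toFun := fun a => TrivSqZeroExt.inl (ev a) + TrivSqZeroExt.inr (l a)
      map_one' := by ext <;> simp [hl1]
      map_mul' := fun a b => by
        ext <;> simp [hmul, mul_comm]
      map_zero' := by ext <;> simp
      map_add' := fun a b => by ext <;> simp }
  have hvc : unitStalkAlg X ≫ CommRingCat.ofHom v = CommRingCat.ofHom (TrivSqZeroExt.inlHom k k) := by
    ext a : 2
    show TrivSqZeroExt.inl (ev (c a)) + TrivSqZeroExt.inr (l (c a)) = TrivSqZeroExt.inl a
    rw [hevc, hlc, TrivSqZeroExt.inr_zero, _root_.add_zero]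
  let y : sqz k k ⟶ X := Over.homMk (Spec.map (CommRingCat.ofHom v) ≫ u) (by
    show (Spec.map _ ≫ u) ≫ X.hom = Spec.map _
    rw [Category.assoc, ← Spec.map_preimage (u ≫ X.hom), ← Spec.map_comp]
    exact congrArg Spec.map hvc)
  have hy : red k k ≫ y = 1 := by
    refine Over.OverMorphism.ext ((?_ : _ = (η[X]).left).trans ?_)
    · show Spec.map _ ≫ Spec.map _ ≫ u = _
      rw [← Category.assoc, ← Spec.map_comp, ← H19Grp.specMap_unitEval]
      congr 2
      ext a : 2
      show TrivSqZeroExt.fst (v a) = ev a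
      simp [v]
    · exact congrArg (fun w : 𝟙_ (Over (Spec (CommRingCat.of k))) ⟶ X => w.left)
        (show η[X] = 1 by rw [Hom.one_def, toUnit_unique (toUnit _) (𝟙 _), Category.id_comp])
  have hyp : y ≫ ((𝟙 X) ^ p : X ⟶ X) = 1 := by
    rw [MonObj.comp_pow, Category.comp_id, ← scale_natCast hy, hp, scale_zero hy]
  have h1 : Spec.map (CommRingCat.ofHom v) ≫ Spec.map ψ ≫ u =
      Spec.map (CommRingCat.ofHom (TrivSqZeroExt.inlHom k k)) ≫ Spec.map (unitEval X) ≫ u := by
    rw [hψ, H19Grp.specMap_unitEval, ← Category.assoc]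
    exact (congrArg (fun w : sqz k k ⟶ X => w.left) hyp).trans (H19Grp.one_left _)
  rw [← Category.assoc, ← Category.assoc, cancel_mono, ← Spec.map_comp, ← Spec.map_comp, Spec.map_inj] at h1
  have h2 := congrArg (fun g => TrivSqZeroExt.snd (g.hom f)) h1
  simpa [v] using h2

/-- In characteristic `p` the torsion subgroup schemes contain all infinitesimal neighbourhoods of the origin. -/
theorem exists_power_pullback {p : ℕ} (hp : (p : k) = 0) [IsMonHom ((𝟙 X) ^ p : X ⟶ X)] (m : ℕ) :
    ∃ u : Spec (CommRingCat.of (X.left.presheaf.stalk (unitPt X) ⧸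
          IsLocalRing.maximalIdeal (X.left.presheaf.stalk (unitPt X)) ^ (2 ^ m))) ⟶
        pullback η[X].left ((𝟙 X ^ (p ^ m)).left),
      u ≫ pullback.snd η[X].left ((𝟙 X ^ (p ^ m)).left) =
        Spec.map (CommRingCat.ofHom (Ideal.Quotient.mk _)) ≫ X.left.fromSpecStalk (unitPt X) := by
  let O := X.left.presheaf.stalk (unitPt X)
  let u := X.left.fromSpecStalk (unitPt X)
  let M := IsLocalRing.maximalIdeal O
  let q : X ⟶ X := (𝟙 X) ^ p
  haveI : IsLocalHom (unitEval X).hom := inferInstanceAs (IsLocalHom (Scheme.stalkClosedPointTo (R := CommRingCat.of k) η[X].left).hom)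
  have hker : ∀ a, (unitEval X).hom a = 0 ↔ a ∈ M := fun a => by
    rw [IsLocalRing.mem_maximalIdeal, mem_nonunits_iff]
    exact ⟨fun h hu => (hu.map _).ne_zero h,
      fun h => by_contra fun hne => h (isUnit_of_map_unit (unitEval X).hom a (Ne.isUnit hne))⟩
  obtain ⟨ψ, hψ⟩ : ∃ ψ : O ⟶ O, Spec.map ψ ≫ u = u ≫ q.left := by
    obtain ⟨ψ, hψ⟩ := H19Grp.exists_hom_of_closedPoint_eq (u ≫ q.left) (x := unitPt X) (by
      rw [Scheme.Hom.comp_apply, Scheme.fromSpecStalk_closedPoint]
      exact congrArg (fun w : 𝟙_ (Over (Spec (CommRingCat.of k))) ⟶ X => w.left (IsLocalRing.closedPoint k))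
        (IsMonHom.one_hom q))
    exact ⟨ψ, hψ.symm⟩
  have hpowM : M.map ψ.hom ≤ M ^ 2 := Ideal.map_le_iff_le_comap.2 fun f hf => mem_sq_of_pow hp ψ hψ f ((hker f).2 hf)
  have key : ∀ n, ∃ φ : O ⟶ O, Spec.map φ ≫ u = u ≫ ((𝟙 X) ^ (p ^ n) : X ⟶ X).left ∧ M.map φ.hom ≤ M ^ (2 ^ n) := by
    intro n
    induction n with
    | zero => exact ⟨𝟙 _, by rw [Spec.map_id, Category.id_comp, pow_zero, pow_one, Over.id_left, Category.comp_id],
        by rw [pow_zero, pow_one]; exact (Ideal.map_id M).le⟩
    | succ n ih =>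
      obtain ⟨φ, hφ, hφM⟩ := ih
      refine ⟨φ ≫ ψ, ?_, ?_⟩
      · rw [Spec.map_comp, Category.assoc, hφ, ← Category.assoc, hψ, Category.assoc, ← Over.comp_left,
          show q ≫ ((𝟙 X) ^ (p ^ n) : X ⟶ X) = (𝟙 X) ^ (p ^ (n + 1)) by
            rw [MonObj.comp_pow, Category.comp_id, ← pow_mul, ← pow_succ']]
      · rw [CommRingCat.hom_comp, ← Ideal.map_map, pow_succ', pow_mul]
        refine (Ideal.map_mono hφM).trans ?_
        rw [Ideal.map_pow]
        exact Ideal.pow_right_mono hpowM _
  obtain ⟨φ, hφ, hφM⟩ := key m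
  let π : O ⟶ CommRingCat.of (O ⧸ M ^ (2 ^ m)) := CommRingCat.ofHom (Ideal.Quotient.mk _)
  let b : CommRingCat.of k ⟶ CommRingCat.of (O ⧸ M ^ (2 ^ m)) := unitStalkAlg X ≫ π
  have hconst : φ ≫ π = unitEval X ≫ b := by
    ext a : 2
    have ha : a - (unitStalkAlg X).hom ((unitEval X).hom a) ∈ M := (hker _).1 (by
      rw [map_sub, H19Grp.unitEval_alg, sub_self])
    have hc : unitStalkAlg X ≫ φ = unitStalkAlg X := Spec.map_injective (by
      rw [Spec.map_comp, unitStalkAlg, Spec.map_preimage, ← Category.assoc, hφ, Category.assoc, Over.w])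
    have h1 : Ideal.Quotient.mk (M ^ (2 ^ m)) (φ.hom (a - (unitStalkAlg X).hom ((unitEval X).hom a))) = 0 :=
      Ideal.Quotient.eq_zero_iff_mem.2 (hφM (Ideal.mem_map_of_mem _ ha))
    rw [map_sub, map_sub, sub_eq_zero] at h1
    exact h1.trans (congrArg (Ideal.Quotient.mk (M ^ (2 ^ m))) (congrArg (fun g => g.hom ((unitEval X).hom a)) hc))
  refine ⟨pullback.lift (Spec.map b) (Spec.map π ≫ u) ?_, pullback.lift_snd _ _ _⟩
  show Spec.map b ≫ η[X].left = (Spec.map π ≫ u) ≫ _
  refine Eq.symm ?_
  rw [Category.assoc, ← hφ, ← Category.assoc, ← Spec.map_comp, hconst, Spec.map_comp (unitEval X) b, Category.assoc,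
    H19Grp.specMap_unitEval]

variable [IsProper X.hom] [GeometricallyIntegral X.hom]

/-- Prime power torsion is scheme-theoretically dense. -/
theorem isIso_of_torsion_le (p : ℕ) (hp : p.Prime) (Z : Scheme.{u}) (c : Z ⟶ X.left) [IsClosedImmersion c]
    (hc : ∀ m : ℕ, 0 < m →
      ∃ t : pullback η[X].left ((𝟙 X ^ (p ^ m)).left) ⟶ Z,
        t ≫ c = pullback.snd η[X].left ((𝟙 X ^ (p ^ m)).left)) :
    IsIso c := by
  haveI : IsIntegral X.left := GeometricallyIntegral.isIntegral_of_subsingleton X.hom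
  haveI : IsCommMonObj X := isCommMonObj_of_av
  haveI : Fact p.Prime := ⟨hp⟩
  suffices h : Surjective c from isIso_of_isClosedImmersion_of_surjective c
  have hclosed : IsClosed (Set.range c) := c.isClosedEmbedding.isClosed_range
  rw [surjective_iff, ← Set.range_eq_univ, ← hclosed.closure_eq, ← dense_iff_closure_eq]
  by_cases hpk : (p : k) = 0
  · haveI : IsMonHom ((𝟙 X) ^ p : X ⟶ X) := isMonHom_pow p
    let O := X.left.presheaf.stalk (unitPt X)
    let M := IsLocalRing.maximalIdeal O
    let u := X.left.fromSpecStalk (unitPt X)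
    haveI : IsLocallyNoetherian X.left := LocallyOfFiniteType.isLocallyNoetherian X.hom
    haveI : IsClosedImmersion (pullback.fst u c) := MorphismProperty.pullback_fst _ _ inferInstance
    obtain ⟨I, e, he⟩ := (IsClosedImmersion.Spec_iff (R := O) (f := pullback.fst u c)).1 inferInstance
    have hI : ∀ n, I ≤ M ^ n := fun n => by
      obtain ⟨g, hg⟩ := exists_power_pullback (X := X) hpk (n + 1)
      obtain ⟨t, ht⟩ := hc (n + 1) n.succ_pos
      have hn : n ≤ 2 ^ (n + 1) := (Nat.lt_pow_self (by norm_num)).le.trans (Nat.pow_le_pow_right (by norm_num) n.le_succ)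
      refine le_trans ?_ (Ideal.pow_le_pow_right hn)
      let l : Spec (CommRingCat.of (O ⧸ M ^ (2 ^ (n + 1)))) ⟶ pullback u c :=
        pullback.lift (Spec.map (CommRingCat.ofHom (Ideal.Quotient.mk _))) (g ≫ t)
          (by rw [Category.assoc, ht, hg])
      let w := l ≫ e.hom
      have hw : w ≫ Spec.map (CommRingCat.ofHom (Ideal.Quotient.mk I)) =
          Spec.map (CommRingCat.ofHom (Ideal.Quotient.mk (M ^ (2 ^ (n + 1))))) := by
        show (l ≫ e.hom) ≫ _ = _
        rw [Category.assoc, ← he, pullback.lift_fst]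
      rw [← Spec.map_preimage w, ← Spec.map_comp, Spec.map_inj] at hw
      intro a ha
      rw [← Ideal.Quotient.eq_zero_iff_mem]
      refine (congrArg (fun φ => φ.hom a) hw).symm.trans ?_
      show (Spec.preimage w).hom (Ideal.Quotient.mk I a) = 0
      rw [Ideal.Quotient.eq_zero_iff_mem.2 ha, map_zero]
    have hI0 : I = ⊥ := le_bot_iff.1 ((le_iInf hI).trans
      (Ideal.iInf_pow_eq_bot_of_isLocalRing M (IsLocalRing.maximalIdeal.isMaximal O).ne_top).le)
    have hgen : genericPoint X.left ∈ Set.range u := by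
      rw [Scheme.range_fromSpecStalk]
      exact genericPoint_specializes _
    obtain ⟨o, ho⟩ := hgen
    haveI : Surjective (pullback.fst u c) := by
      haveI : IsIso (CommRingCat.ofHom (Ideal.Quotient.mk I)) := by
        subst hI0
        exact (RingEquiv.quotientBot O).symm.toCommRingCatIso.isIso_hom
      rw [he]; infer_instance
    obtain ⟨w, rfl⟩ := (pullback.fst u c).surjective o
    have hmem : genericPoint X.left ∈ Set.range c := ⟨pullback.snd u c w, by
      rw [← ho, ← Scheme.Hom.comp_apply, ← Scheme.Hom.comp_apply, pullback.condition]⟩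
    exact (dense_iff_closure_eq.2 ((genericPoint_spec X.left).def)).mono (Set.singleton_subset_iff.2 hmem)
  · let Ω := AlgebraicClosure k
    let A := Red.bc (AbVar.ext k Ω) X
    haveI : IsProper A.hom := MorphismProperty.pullback_snd _ _ inferInstance
    haveI : GeometricallyIntegral A.hom := MorphismProperty.pullback_snd _ _ inferInstance
    haveI : IsCommMonObj A := isCommMonObj_of_av
    let π : A.left ⟶ X.left := pullback.fst X.hom (AbVar.ext k Ω)
    haveI : Surjective π := MorphismProperty.pullback_fst _ _ surjective_ext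
    have hpΩ : (p : Ω) ≠ 0 := fun h => hpk ((algebraMap k Ω).injective (by rw [map_natCast, h, map_zero]))
    refine (π.surjective.denseRange.dense_image π.continuous (dense_torsSet (A := A) p hpΩ)).mono ?_
    rintro _ ⟨_, ⟨n, a, ha, rfl⟩, rfl⟩
    obtain ⟨t, ht⟩ := hc (n + 1) n.succ_pos
    let x : Over.mk (AbVar.ext k Ω) ⟶ X := Over.homMk (a.left ≫ π) (by
      show (a.left ≫ π) ≫ X.hom = AbVar.ext k Ω
      rw [Category.assoc, pullback.condition, ← Category.assoc]
      exact (congrArg (· ≫ AbVar.ext k Ω) (Over.w a)).trans (Category.id_comp _))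
    have ha' : a ^ (p ^ (n + 1)) = 1 := by rw [pow_succ, pow_mul, ha, one_pow]
    have h3 := congrArg (fun w : Over.mk (𝟙 (Spec (CommRingCat.of Ω))) ⟶ A => w.left ≫ π) ha'
    have hF : ((Over.pullback (AbVar.ext k Ω)).map ((𝟙 X) ^ (p ^ (n + 1)) : X ⟶ X) : A ⟶ A) =
        (𝟙 A) ^ (p ^ (n + 1)) :=
      (map_pow (Functor.homMonoidHom (Over.pullback (AbVar.ext k Ω))) (𝟙 X) _).trans
        (congrArg (· ^ (p ^ (n + 1))) ((Over.pullback (AbVar.ext k Ω)).map_id X))
    have hx : x.left ≫ ((𝟙 X) ^ (p ^ (n + 1)) : X ⟶ X).left = AbVar.ext k Ω ≫ η[X].left := by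
      show (a.left ≫ π) ≫ _ = _
      rw [Category.assoc, (H19Grp.isPullback_map (AbVar.ext k Ω) _).w, ← Category.assoc, hF, ← Over.comp_left,
        MonObj.comp_pow, Category.comp_id, ha', H19Grp.one_left, Category.assoc, H19Grp.bc_one]
      exact Category.id_comp _
    refine ⟨t (pullback.lift (AbVar.ext k Ω) x.left hx.symm (IsLocalRing.closedPoint Ω)), ?_⟩
    rw [← Scheme.Hom.comp_apply, ← Scheme.Hom.comp_apply, ht, pullback.lift_snd]
    rfl

end Groth.Agent.H25Chow
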