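import Groth.Agent.H25Chow.TorsionPts
import Groth.Agent.H25Chow.DensePoints
import Groth.Agent.H25AbCube.GeomTate
import Groth.Agent.H25AbCube.Dense
import Groth.Agent.H25AbCube.AbImage
import Groth.Agent.H22Alg.UnivOpen
import Groth.Agent.S1875

/-!
# Abelian subvarieties descend along primary extensions
-/

set_option autoImplicit false
set_option linter.style.haveILetI false
set_option linter.unusedSectionVars false
set_option backward.isDefEq.respectTransparency false
set_option synthInstance.maxHeartbeats 200000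
universe u

open CategoryTheory CategoryTheory.Limits MonoidalCategory CartesianMonoidalCategory MonObj GrpObj AlgebraicGeometry
open Groth.Agent Groth.Agent.H25AbCube

noncomputable section

namespace Groth.Agent.H25Chow

/-- Two embeddings of a separable extension into algebraically closed extensions of `K` differ by a `K`-embedding. -/
theorem exists_transport {k K Ω Ω' L : Type u} [Field k] [Field K] [Field Ω] [Field Ω'] [Field L] [Algebra k K]
    [Algebra k Ω] [Algebra K Ω] [IsScalarTower k K Ω] [IsAlgClosed Ω] [Algebra.IsAlgebraic K Ω] [Algebra k Ω']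
    [Algebra K Ω'] [IsScalarTower k K Ω'] [IsAlgClosed Ω'] [Algebra k L] [Module.Finite k L]
    [Algebra.IsSeparable k L] (hK : AbVar.IsPrimaryExt k K) (φ : L →ₐ[k] Ω) (φ' : L →ₐ[k] Ω') :
    ∃ ρ : Ω →ₐ[K] Ω', ∀ x, ρ (φ x) = φ' x := by
  let e : Ω →ₐ[K] Ω' := IsAlgClosed.lift
  have hmem : ∀ x, φ' x ∈ e.range := fun x => by
    have hi : IsIntegral K (φ' x) := (Algebra.IsIntegral.isIntegral (R := k) x).map φ' |>.tower_top
    have hroot : (((minpoly K (φ' x)).map (algebraMap K Ω)).map e.toRingHom).IsRoot (φ' x) := by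
      rw [Polynomial.map_map, show e.toRingHom.comp (algebraMap K Ω) = algebraMap K Ω' from e.comp_algebraMap,
        Polynomial.IsRoot, Polynomial.eval_map, ← Polynomial.aeval_def]
      exact minpoly.aeval K _
    exact (IsAlgClosed.splits _).mem_range_of_isRoot (Polynomial.map_ne_zero (minpoly.ne_zero hi)) hroot
  let φ'' : L →ₐ[k] Ω :=
    ((AlgEquiv.ofInjective e e.toRingHom.injective).symm.toAlgHom.restrictScalars k).comp
      (AlgHom.codRestrict φ' (e.range.restrictScalars k) hmem)
  have h2 : ∀ x, e (φ'' x) = φ' x := fun x =>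
    congrArg Subtype.val ((AlgEquiv.ofInjective e e.toRingHom.injective).apply_symm_apply ⟨φ' x, hmem x⟩)
  obtain ⟨τ, hτ⟩ := exists_conj hK φ φ''
  exact ⟨e.comp τ.toAlgHom, fun x => (congrArg e (hτ x)).trans (h2 x)⟩

variable {k K : Type u} [Field k] [Field K] [Algebra k K]

theorem universallyOpen_ext : UniversallyOpen (AbVar.ext k K) :=
  H22Alg.universallyOpen_specMap fun _R _ _ => PrimeSpectrum.isOpenMap_comap_algebraMap_tensorProduct_of_field

theorem surjective_ext : Surjective (AbVar.ext k K) :=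
  ⟨fun y => ⟨IsLocalRing.closedPoint K, Subsingleton.elim (α := PrimeSpectrum k) _ _⟩⟩

/-- An abelian subvariety over a primary extension is defined over the ground field. -/
theorem exists_descent (hK : AbVar.IsPrimaryExt k K)
    (A : Over (Spec (CommRingCat.of k))) [GrpObj A] [IsProper A.hom] [GeometricallyIntegral A.hom]
    (B' : Over (Spec (CommRingCat.of K))) [GrpObj B'] [IsProper B'.hom] [GeometricallyIntegral B'.hom]
    (i' : B' ⟶ Red.bc (AbVar.ext k K) A) [IsMonHom i'] [IsClosedImmersion i'.left] :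
    ∃ (B : Over (Spec (CommRingCat.of k))) (_ : GrpObj B) (i : B ⟶ A), IsProper B.hom ∧ GeometricallyIntegral B.hom ∧
      IsMonHom i ∧ IsClosedImmersion i.left ∧
      ∃ e : Red.bc (AbVar.ext k K) B ≅ B', e.hom ≫ i' = (Over.pullback (AbVar.ext k K)).map i := by
  classical
  haveI : IsCommMonObj A := isCommMonObj_of_av
  haveI : IsCommMonObj B' := isCommMonObj_of_av
  let σK := AbVar.ext k K
  let F := Over.pullback σK
  let π : (Red.bc σK A).left ⟶ A.left := pullback.fst A.hom σK
  haveI : UniversallyOpen σK := universallyOpen_ext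
  haveI : Surjective σK := surjective_ext
  haveI : UniversallyOpen π := inferInstance
  haveI : Surjective π := MorphismProperty.pullback_fst _ _ inferInstance
  let Ω := AlgebraicClosure K
  obtain ⟨l, hlp, hlK⟩ := exists_prime_ne_zero K
  haveI : Fact l.Prime := ⟨hlp⟩
  have hlk : (l : k) ≠ 0 := fun h => hlK (by rw [← map_natCast (algebraMap k K), h, map_zero])
  let ρ : (SGA7.pt Ω ⟶ B') → (Spec (CommRingCat.of Ω) ⟶ A.left) := fun b => b.left ≫ i'.left ≫ π
  let S0 : Set A.left :=
    {x | ∃ (b : SGA7.pt Ω ⟶ B') (n : ℕ), b ^ (l ^ n) = 1 ∧ ρ b (IsLocalRing.closedPoint Ω) = x}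
  have hρ : ∀ b, ρ b ≫ A.hom = Spec.map (CommRingCat.ofHom (algebraMap k Ω)) := fun b => by
    show (b.left ≫ i'.left ≫ π) ≫ A.hom = _
    rw [Category.assoc, Category.assoc, pullback.condition]
    show b.left ≫ i'.left ≫ (Red.bc σK A).hom ≫ σK = _
    rw [Over.w_assoc i', Over.w_assoc b]
    show Spec.map _ ≫ Spec.map _ = _
    rw [← Spec.map_comp, ← CommRingCat.ofHom_comp, ← IsScalarTower.algebraMap_eq]
  have hsep : ∀ x ∈ S0, ∃ (b : SGA7.pt Ω ⟶ B') (L : Type u) (_ : Field L) (_ : Algebra k L) (_ : Module.Finite k L)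
      (_ : Algebra.IsSeparable k L) (σ : Spec (CommRingCat.of L) ⟶ A.left),
      σ ≫ A.hom = Spec.map (CommRingCat.ofHom (algebraMap k L)) ∧ ρ b (IsLocalRing.closedPoint Ω) = x ∧
      ∀ {Ω' : Type u} [Field Ω'] [Algebra k Ω'] (a' : Spec (CommRingCat.of Ω') ⟶ A.left),
        a' ≫ A.hom = Spec.map (CommRingCat.ofHom (algebraMap k Ω')) →
        a' (IsLocalRing.closedPoint Ω') = ρ b (IsLocalRing.closedPoint Ω) →
        ∃ φ : L →ₐ[k] Ω', a' = Spec.map (CommRingCat.ofHom φ.toRingHom) ≫ σ := by
    rintro x ⟨b, n, hb, rfl⟩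
    have htor : ρ b ≫ ((𝟙 A) ^ (l ^ n) : A ⟶ A).left = ρ b ≫ A.hom ≫ η[A].left := by
      have h1 : (b ≫ i') ≫ F.map ((𝟙 A) ^ (l ^ n) : A ⟶ A) = (b ≫ i') ≫ F.map (1 : A ⟶ A) := by
        have hp : (F.map ((𝟙 A) ^ (l ^ n) : A ⟶ A) : Red.bc σK A ⟶ Red.bc σK A) = (𝟙 (Red.bc σK A)) ^ (l ^ n) :=
          (map_pow (Functor.homMonoidHom F) (𝟙 A) (l ^ n)).trans (congrArg (· ^ (l ^ n)) (F.map_id A))
        have h1' : (F.map (1 : A ⟶ A) : Red.bc σK A ⟶ Red.bc σK A) = 1 := map_one (Functor.homMonoidHom F)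
        rw [hp, h1', comp_pow_id, MonObj.comp_one, ← MonObj.pow_comp, hb, MonObj.one_comp]
      have h2 := congrArg (fun w => Over.Hom.left w ≫ π) h1
      simp only [Over.comp_left, Category.assoc, F, π, Over.pullback_map_left, pullback.lift_fst] at h2
      show (b.left ≫ i'.left ≫ π) ≫ _ = (b.left ≫ i'.left ≫ π) ≫ _
      rw [Category.assoc, Category.assoc]
      exact h2
    obtain ⟨L, _, _, _, _, σ, hσ, huniv⟩ := exists_separable_point (A := A) (n := l ^ n)
      (by rw [Nat.cast_pow]; exact pow_ne_zero _ hlk) (ρ b) (hρ b) htor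
    exact ⟨b, L, inferInstance, inferInstance, inferInstance, inferInstance, σ, hσ, rfl, huniv⟩
  -- the preimage of `S0` lies in the subvariety
  have hpre : π ⁻¹' S0 ⊆ Set.range i'.left := by
    intro y hy
    obtain ⟨b, L, _, _, _, _, σ, hσ, hbx, huniv⟩ := hsep _ hy
    let M := (Red.bc σK A).left.residueField y
    let algM : Algebra K M :=
      (Spec.preimage ((Red.bc σK A).left.fromSpecResidueField y ≫ (Red.bc σK A).hom)).hom.toAlgebra
    letI := algM
    let Ω' := AlgebraicClosure M
    letI : Algebra k Ω' := ((algebraMap K Ω').comp (algebraMap k K)).toAlgebra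
    haveI : IsScalarTower k K Ω' := IsScalarTower.of_algebraMap_eq fun _ => rfl
    let a'' : Spec (CommRingCat.of Ω') ⟶ (Red.bc σK A).left :=
      Spec.map (CommRingCat.ofHom (algebraMap M Ω')) ≫ (Red.bc σK A).left.fromSpecResidueField y
    have ha''K : a'' ≫ (Red.bc σK A).hom = Spec.map (CommRingCat.ofHom (algebraMap K Ω')) := by
      rw [Category.assoc, ← Spec.map_preimage ((Red.bc σK A).left.fromSpecResidueField y ≫ (Red.bc σK A).hom),
        ← Spec.map_comp]
      congr 1
    have ha''y : a'' (IsLocalRing.closedPoint Ω') = y := by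
      show ((Red.bc σK A).left.fromSpecResidueField y) _ = y
      exact Scheme.fromSpecResidueField_apply _ _
    have ha'k : (a'' ≫ π) ≫ A.hom = Spec.map (CommRingCat.ofHom (algebraMap k Ω')) := by
      rw [Category.assoc, pullback.condition]
      show a'' ≫ (Red.bc σK A).hom ≫ σK = _
      rw [← Category.assoc, ha''K, ← Spec.map_comp]
      rfl
    obtain ⟨φ, hφ⟩ := huniv (ρ b) (hρ b) rfl
    obtain ⟨φ', hφ'⟩ := huniv (a'' ≫ π) ha'k (by rw [Scheme.Hom.comp_apply, ha''y, hbx])
    obtain ⟨r, hr⟩ := exists_transport (Ω := Ω) (Ω' := Ω') hK φ φ'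
    have key : a'' = (Spec.map (CommRingCat.ofHom r.toRingHom) ≫ b.left) ≫ i'.left := by
      refine pullback.hom_ext ?_ ?_
      · rw [hφ', show φ'.toRingHom = r.toRingHom.comp φ.toRingHom from RingHom.ext fun x => (hr x).symm,
          CommRingCat.ofHom_comp, Spec.map_comp, Category.assoc, ← hφ]
        simp only [ρ, Category.assoc]
        rfl
      · show a'' ≫ (Red.bc σK A).hom = ((Spec.map (CommRingCat.ofHom r.toRingHom) ≫ b.left) ≫ i'.left) ≫ (Red.bc σK A).hom
        rw [ha''K, Category.assoc, Over.w i', Category.assoc, Over.w b]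
        show _ = Spec.map _ ≫ Spec.map _
        rw [← Spec.map_comp, ← CommRingCat.ofHom_comp,
          show r.toRingHom.comp (algebraMap K Ω) = algebraMap K Ω' from r.comp_algebraMap]
    exact ⟨(Spec.map (CommRingCat.ofHom r.toRingHom) ≫ b.left) (IsLocalRing.closedPoint Ω'), by
      rw [← Scheme.Hom.comp_apply, ← key, ha''y]⟩
  -- `S0` is dense in the image of the subvariety
  have hrange : Set.range (i'.left ≫ π) ⊆ closure S0 := by
    haveI : IsCommMonObj ((GeomTate.bc K Ω).obj B') := GeomTate.isCommMonObj_bc B'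
    have hlΩ : (l : Ω) ≠ 0 := fun h => hlK ((algebraMap K Ω).injective (by rw [map_natCast, map_zero, h]))
    have hd := dense_torsSet (A := (GeomTate.bc K Ω).obj B') l hlΩ
    let f : ((GeomTate.bc K Ω).obj B').left ⟶ A.left := pullback.fst B'.hom (GeomTate.σ K Ω) ≫ i'.left ≫ π
    have him : f '' torsSet ((GeomTate.bc K Ω).obj B') l ⊆ S0 := by
      rintro _ ⟨z, ⟨n, a, ha, rfl⟩, rfl⟩
      refine ⟨(GeomTate.ψ B').symm a, n, by rw [← map_pow, ha, map_one], ?_⟩
      have hb : ((GeomTate.ψ B').symm a).left = a.left ≫ pullback.fst B'.hom (GeomTate.σ K Ω) := by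
        simp [GeomTate.ψ, GeomTate.jIso, Adjunction.homEquiv_counit]
      show (((GeomTate.ψ B').symm a).left ≫ i'.left ≫ π) _ = _
      rw [hb, Category.assoc]
      rfl
    haveI : Surjective (GeomTate.σ K Ω) := GeomTate.surjective_σ K Ω
    haveI : Surjective (pullback.fst B'.hom (GeomTate.σ K Ω)) := MorphismProperty.pullback_fst _ _ inferInstance
    rintro _ ⟨z, rfl⟩
    obtain ⟨w, rfl⟩ := (pullback.fst B'.hom (GeomTate.σ K Ω)).surjective z
    exact closure_mono him (image_closure_subset_closure_image f.continuous ⟨w, hd w, rfl⟩)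
  have hset : π ⁻¹' closure S0 = Set.range i'.left := by
    refine Set.Subset.antisymm ?_ ?_
    · rw [π.isOpenMap.preimage_closure_eq_closure_preimage π.continuous]
      exact closure_minimal hpre i'.left.isClosedEmbedding.isClosed_range
    · rintro _ ⟨z, rfl⟩
      exact hrange ⟨z, rfl⟩
  -- the descended subvariety
  let Z0 : TopologicalSpace.Closeds A.left := ⟨closure S0, isClosed_closure⟩
  let j := (Scheme.IdealSheafData.vanishingIdeal Z0).subschemeι
  let M : Over (Spec (CommRingCat.of k)) := Over.mk (j ≫ A.hom)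
  let i : M ⟶ A := Over.homMk j rfl
  haveI : IsClosedImmersion i.left := inferInstanceAs (IsClosedImmersion j)
  haveI : Mono i := Over.mono_of_mono_left _
  haveI : IsReduced M.left := H17.isReduced_vanishingIdeal_subscheme Z0
  have hj : Set.range i.left = closure S0 := H17.range_vanishingIdeal_subschemeι Z0
  haveI : IsProper M.hom := inferInstanceAs (IsProper (j ≫ A.hom))
  haveI : GeometricallyReduced M.hom := by
    refine geometricallyReduced_of_dense M.hom (i.left ⁻¹' S0) ?_ fun s hs => ?_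
    · rw [dense_iff_closure_eq, i.left.isClosedEmbedding.isInducing.closure_eq_preimage_closure_image,
        Set.image_preimage_eq_of_subset (hj ▸ subset_closure), ← hj, Set.preimage_range]
    · obtain ⟨b, L, _, _, _, _, σ, hσ, hbx, huniv⟩ := hsep _ hs
      obtain ⟨φ, hφ⟩ := huniv (ρ b) (hρ b) rfl
      have hpt : σ (IsLocalRing.closedPoint L) = i.left s := by
        rw [← hbx, hφ, Scheme.Hom.comp_apply]
        exact congrArg σ (Subsingleton.elim (α := PrimeSpectrum L) _ _)
      obtain ⟨σ', hσ'⟩ := H17.exists_lift_of_range_subset σ i.left (by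
        rintro _ ⟨z, rfl⟩
        exact ⟨s, by rw [← hpt]; exact congrArg σ (Subsingleton.elim (α := PrimeSpectrum L) _ _)⟩)
      refine ⟨L, inferInstance, inferInstance, σ', ?_, ?_, S1875.isGeometricallyReduced_of_isSeparable k L⟩
      · rw [← hσ, ← hσ', Category.assoc]
        rfl
      · apply i.left.isClosedEmbedding.injective
        rw [← Scheme.Hom.comp_apply, hσ', hpt]
  -- comparison over the extension
  let iK : F.obj M ⟶ Red.bc σK A := F.map i
  have hiK : IsPullback (pullback.fst M.hom σK) iK.left i.left π := H19Grp.isPullback_map σK i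
  haveI : IsClosedImmersion iK.left := MorphismProperty.of_isPullback (P := @IsClosedImmersion) hiK ‹_›
  have hrK : Set.range iK.left = Set.range i'.left := by
    rw [← hset, ← hj, ← Scheme.Pullback.range_snd, ← hiK.isoPullback_hom_snd]
    ext y
    constructor
    · rintro ⟨z, rfl⟩
      exact ⟨_, rfl⟩
    · rintro ⟨w, rfl⟩
      obtain ⟨z, rfl⟩ := hiK.isoPullback.hom.surjective w
      exact ⟨z, rfl⟩
  haveI : IsReduced (F.obj M).left := H06Red.isReduced_pullback_symm (f := M.hom) (g := σK)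
  haveI : IsIntegral B'.left := GeometricallyIntegral.isIntegral_of_subsingleton B'.hom
  obtain ⟨f₁, hf₁⟩ := H17.exists_lift_of_range_subset iK.left i'.left hrK.subset
  obtain ⟨f₂, hf₂⟩ := H17.exists_lift_of_range_subset i'.left iK.left hrK.symm.subset
  let e₁ : F.obj M ⟶ B' := Over.homMk f₁ (by rw [← Over.w i', reassoc_of% hf₁]; exact Over.w iK)
  let e₂ : B' ⟶ F.obj M := Over.homMk f₂ (by rw [← Over.w iK, reassoc_of% hf₂]; exact Over.w i')
  have he₁ : e₁ ≫ i' = iK := Over.OverMorphism.ext hf₁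
  have he₂ : e₂ ≫ iK = i' := Over.OverMorphism.ext hf₂
  haveI : Mono i' := Over.mono_of_mono_left _
  haveI : Mono iK := Over.mono_of_mono_left _
  let e : Red.bc σK M ≅ B' := ⟨e₁, e₂, by
      rw [← cancel_mono iK, Category.assoc, he₂, he₁, Category.id_comp], by
      rw [← cancel_mono i', Category.assoc, he₁, he₂, Category.id_comp]⟩
  -- the group structure
  have hl : ∀ {T : Over (Spec (CommRingCat.of k))} (f : T ⟶ A) (h : F.obj T ⟶ B'), F.map f = h ≫ i' →
      IsReduced T.left → ∃ g : T ⟶ M, g ≫ i = f := by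
    intro T f h hfh _
    haveI : Surjective (pullback.fst T.hom σK) := MorphismProperty.pullback_fst _ _ inferInstance
    obtain ⟨g, hg⟩ := H17.exists_lift_of_range_subset f.left i.left (by
      rintro _ ⟨t, rfl⟩
      obtain ⟨w, rfl⟩ := (pullback.fst T.hom σK).surjective t
      rw [hj]
      refine hrange ⟨h.left w, ?_⟩
      rw [← Scheme.Hom.comp_apply, ← Scheme.Hom.comp_apply, ← Category.assoc, ← Over.comp_left, ← hfh]
      simp [F, π])
    exact ⟨Over.homMk g (by rw [← Over.w f, ← hg, Category.assoc]; rfl), Over.OverMorphism.ext hg⟩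
  haveI : IsReduced (M ⊗ M).left := by
    show IsReduced (pullback M.hom M.hom)
    exact H06Red.isReduced_pullback _ _
  haveI : IsReduced (𝟙_ (Over (Spec (CommRingCat.of k)))).left :=
    inferInstanceAs (IsReduced (Spec (CommRingCat.of k)))
  obtain ⟨e₀, he₀⟩ := hl η[A] 1 (by
    rw [show η[A] = (1 : _ ⟶ A) by rw [Hom.one_def, toUnit_unique (toUnit _) (𝟙 _), Category.id_comp],
      MonObj.one_comp]
    exact map_one (Functor.homMonoidHom F)) inferInstance
  obtain ⟨m₀, hm₀⟩ := hl ((i ⊗ₘ i) ≫ μ[A]) ((F.map (fst M M) ≫ e₁) * (F.map (snd M M) ≫ e₁)) (by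
    rw [show (i ⊗ₘ i) ≫ μ[A] = (fst M M ≫ i) * (snd M M ≫ i) by rw [Hom.mul_def]; congr 1]
    refine (map_mul (Functor.homMonoidHom F) _ _).trans ?_
    rw [MonObj.mul_comp, Category.assoc, Category.assoc, he₁]
    show F.map (fst M M ≫ i) * F.map (snd M M ≫ i) = _
    rw [F.map_comp, F.map_comp]
    ) inferInstance
  obtain ⟨i₀, hi₀⟩ := hl (i ≫ ι[A]) e₁⁻¹ (by
    rw [show i ≫ ι[A] = i⁻¹ from (Hom.inv_def i).symm, GrpObj.inv_comp, he₁]
    exact map_inv (Functor.homMonoidHom F) i) inferInstance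
  obtain ⟨gM, hi⟩ := H19Grp.exists_grpObj_of_mono A i e₀ he₀ m₀ hm₀ i₀ hi₀
  haveI : ConnectedSpace ↥M.left := by
    have hsurj : Set.range i.left = Set.range (i'.left ≫ π) := by
      rw [hj]
      refine Set.Subset.antisymm (fun x hx => ?_) hrange
      obtain ⟨y, rfl⟩ := π.surjective x
      obtain ⟨z, rfl⟩ : y ∈ Set.range i'.left := hset ▸ hx
      exact ⟨z, rfl⟩
    refine connectedSpace_iff_univ.2 ⟨⟨i₀.left (Classical.choice ?ne), trivial⟩,
      (Topology.IsInducing.isPreconnected_image i.left.isClosedEmbedding.isInducing).1 ?_⟩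
    case ne =>
      obtain ⟨x⟩ := (inferInstance : Nonempty B'.left)
      obtain ⟨s, -⟩ := (hsurj ▸ (⟨x, rfl⟩ : (i'.left ≫ π) x ∈ Set.range (i'.left ≫ π)) : (i'.left ≫ π) x ∈ Set.range i.left)
      exact ⟨s⟩
    rw [Set.image_univ, hsurj]
    exact (isConnected_range (i'.left ≫ π).continuous).isPreconnected
  exact ⟨M, gM, i, inferInstance, geometricallyIntegral_of_connected M, hi, inferInstance, e, he₁⟩

end Groth.Agent.H25Chow
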