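import Mathlib
import Groth.Prelude.Def_Red
import Groth.Prelude.Def_W4bk6langav68Chow
import Groth.Agent.H19Grp.NeutralOpen

/-!
# The largest closed subscheme over the ground field inside a closed subscheme of a base change

For an affine scheme `P` over `k` and a closed subscheme `N` of `P_K` there is a largest closed subscheme
`H ⊆ P` with `H_K ⊆ N`; it is a subgroup when `N` is one.
-/

set_option autoImplicit false
set_option linter.style.haveILetI false
set_option linter.unusedSectionVars false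
set_option backward.isDefEq.respectTransparency false
set_option synthInstance.maxHeartbeats 200000
universe u

open CategoryTheory CategoryTheory.Limits MonoidalCategory CartesianMonoidalCategory MonObj GrpObj AlgebraicGeometry
open scoped TensorProduct
open Groth.Agent

noncomputable section

namespace Groth.Agent.H25Chow

/-- Ideals of a base change along a field extension contain a largest ideal defined over the ground field. -/
theorem exists_coeff_ideal (k K R : Type u) [Field k] [Field K] [Algebra k K] [CommRing R] [Algebra k R]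
    (I : Ideal (R ⊗[k] K)) :
    ∃ J : Ideal R, ∀ (T : Type u) [CommRing T] [Algebra k T] (f : R →ₐ[k] T),
      J ≤ RingHom.ker f ↔ I ≤ RingHom.ker (Algebra.TensorProduct.map f (AlgHom.id k K)) := by
  classical
  let b := Module.Basis.ofVectorSpace k K
  let bR := Algebra.TensorProduct.basis R b
  refine ⟨Ideal.span {r | ∃ x ∈ I, ∃ i, bR.repr x i = r}, fun T _ _ f => ?_⟩
  have key : ∀ x : R ⊗[k] K, ∀ i, (Algebra.TensorProduct.basis T b).repr
      (Algebra.TensorProduct.map f (AlgHom.id k K) x) i = f (bR.repr x i) := fun x i => by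
    induction x using TensorProduct.induction_on with
    | zero => simp
    | tmul r a => simp [bR]
    | add x y hx hy => simp [hx, hy]
  rw [Ideal.span_le]
  constructor
  · intro h x hx
    rw [RingHom.mem_ker]
    refine (Algebra.TensorProduct.basis T b).repr.map_eq_zero_iff.1 (Finsupp.ext fun i => ?_)
    rw [key]
    exact h ⟨x, hx, i, rfl⟩
  · rintro h _ ⟨x, hx, i, rfl⟩
    show f (bR.repr x i) = 0
    have h1 : Algebra.TensorProduct.map f (AlgHom.id k K) x = 0 := h hx
    rw [← key, h1, map_zero, Finsupp.zero_apply]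

variable {k K : Type u} [Field k] [Field K] [Algebra k K]

/-- An affine scheme over a field. -/
abbrev specOver (k R : Type u) [Field k] [CommRing R] [Algebra k R] : Over (Spec (CommRingCat.of k)) :=
  Over.mk (Spec.map (CommRingCat.ofHom (algebraMap k R)))

/-- Its base change is the spectrum of the tensor product. -/
def specBcIso (k K R : Type u) [Field k] [Field K] [Algebra k K] [CommRing R] [Algebra k R] :
    Spec (CommRingCat.of (R ⊗[k] K)) ≅ (Red.bc (AbVar.ext k K) (specOver k R)).left :=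
  (pullbackSpecIso k R K).symm

/-- A homomorphism of algebras as a morphism over the field. -/
abbrev specHom {R T : Type u} [CommRing R] [Algebra k R] [CommRing T] [Algebra k T] (f : R →ₐ[k] T) :
    specOver k T ⟶ specOver k R :=
  Over.homMk (Spec.map (CommRingCat.ofHom f.toRingHom))
    ((Spec.map_comp _ _).symm.trans (congrArg (fun g => Spec.map (CommRingCat.ofHom g)) f.comp_algebraMap))

theorem specBcIso_naturality {R T : Type u} [CommRing R] [Algebra k R] [CommRing T] [Algebra k T] (f : R →ₐ[k] T) :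
    (specBcIso k K T).hom ≫ ((Over.pullback (AbVar.ext k K)).map (specHom f)).left =
      Spec.map (CommRingCat.ofHom (Algebra.TensorProduct.map f (AlgHom.id k K)).toRingHom) ≫
        (specBcIso k K R).hom := by
  dsimp only [specBcIso, Iso.symm_hom, Over.pullback_map_left]
  refine pullback.hom_ext ?_ ?_
  · rw [Category.assoc, Category.assoc]
    erw [pullback.lift_fst, pullbackSpecIso_inv_fst, pullbackSpecIso_inv_fst_assoc]
    rw [← Spec.map_comp]
    refine (Spec.map_comp _ _).symm.trans (congrArg Spec.map ?_)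
    ext r
    simp
  · rw [Category.assoc, Category.assoc]
    erw [pullback.lift_snd, pullbackSpecIso_inv_snd, pullbackSpecIso_inv_snd]
    rw [← Spec.map_comp]
    congr 1
    ext r
    simp

/-- The largest closed subscheme, for spectra. -/
theorem exists_largest_spec (R : Type u) [CommRing R] [Algebra k R] {N : Over (Spec (CommRingCat.of K))}
    (j : N ⟶ Red.bc (AbVar.ext k K) (specOver k R)) [IsClosedImmersion j.left] :
    ∃ J : Ideal R, ∀ (T : Type u) [CommRing T] [Algebra k T] (f : R →ₐ[k] T),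
      J ≤ RingHom.ker f ↔ ∃ t, t ≫ j = (Over.pullback (AbVar.ext k K)).map (specHom f) := by
  obtain ⟨I, e, he⟩ := (IsClosedImmersion.Spec_iff (R := CommRingCat.of (R ⊗[k] K))
    (f := j.left ≫ (specBcIso k K R).inv)).1 inferInstance
  obtain ⟨J, hJ⟩ := exists_coeff_ideal k K R I
  refine ⟨J, fun T _ _ f => (hJ T f).trans ⟨fun h => ?_, ?_⟩⟩
  · let φ : (R ⊗[k] K) ⧸ I →+* (T ⊗[k] K) := Ideal.Quotient.lift I
      (Algebra.TensorProduct.map f (AlgHom.id k K)).toRingHom fun x hx => h hx
    let t : (Red.bc (AbVar.ext k K) (specOver k T)).left ⟶ N.left :=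
      (specBcIso k K T).inv ≫ Spec.map (CommRingCat.ofHom φ) ≫ e.inv
    have ht : t ≫ j.left = ((Over.pullback (AbVar.ext k K)).map (specHom f)).left := by
      refine (cancel_mono (specBcIso k K R).inv).1 ?_
      rw [Category.assoc, Category.assoc, Category.assoc, he, Iso.inv_hom_id_assoc, ← Spec.map_comp,
        Iso.inv_comp_eq, ← Category.assoc, specBcIso_naturality, Category.assoc, Iso.hom_inv_id, Category.comp_id]
      congr 1
    exact ⟨Over.homMk t (by rw [← Over.w j, ← Category.assoc, ht, Over.w]), Over.OverMorphism.ext ht⟩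
  · rintro ⟨t, ht⟩ x hx
    let u : Spec (CommRingCat.of (T ⊗[k] K)) ⟶ Spec (CommRingCat.of ((R ⊗[k] K) ⧸ I)) :=
      (specBcIso k K T).hom ≫ t.left ≫ e.hom
    have hu : u ≫ Spec.map (CommRingCat.ofHom (Ideal.Quotient.mk I)) =
        Spec.map (CommRingCat.ofHom (Algebra.TensorProduct.map f (AlgHom.id k K)).toRingHom) := by
      show ((specBcIso k K T).hom ≫ t.left ≫ e.hom) ≫ _ = _
      rw [Category.assoc, Category.assoc, ← he, ← Category.assoc t.left, ← Over.comp_left, ht, ← Category.assoc,
        specBcIso_naturality, Category.assoc, Iso.hom_inv_id, Category.comp_id]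
    rw [← Spec.map_preimage u, ← Spec.map_comp, Spec.map_inj] at hu
    have h1 := congrArg (fun φ => φ.hom x) hu
    simp only [CommRingCat.hom_comp, CommRingCat.hom_ofHom, RingHom.comp_apply,
      Ideal.Quotient.eq_zero_iff_mem.2 hx, map_zero] at h1
    exact h1.symm

/-- An affine scheme over a field is a spectrum of an algebra. -/
theorem exists_iso_specOver (P : Over (Spec (CommRingCat.of k))) [IsAffine P.left] :
    ∃ (R : Type u) (_ : CommRing R) (_ : Algebra k R), Nonempty (P ≅ specOver k R) := by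
  let a : CommRingCat.of k ⟶ Γ(P.left, ⊤) := Spec.preimage (P.left.isoSpec.inv ≫ P.hom)
  letI : Algebra k Γ(P.left, ⊤) := a.hom.toAlgebra
  refine ⟨Γ(P.left, ⊤), inferInstance, inferInstance, ⟨Over.isoMk P.left.isoSpec ?_⟩⟩
  show P.left.isoSpec.hom ≫ Spec.map (CommRingCat.ofHom a.hom) = _
  rw [show CommRingCat.ofHom a.hom = a from rfl, Spec.map_preimage, Iso.hom_inv_id_assoc]

/-- Morphisms of affine schemes over a field come from algebra homomorphisms. -/
theorem exists_specHom {R T : Type u} [CommRing R] [Algebra k R] [CommRing T] [Algebra k T]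
    (x : specOver k T ⟶ specOver k R) : ∃ f : R →ₐ[k] T, specHom f = x := by
  obtain ⟨φ, hφ⟩ : ∃ φ : CommRingCat.of R ⟶ CommRingCat.of T, Spec.map φ = x.left := ⟨_, Spec.map_preimage _⟩
  have h : CommRingCat.ofHom (algebraMap k R) ≫ φ = CommRingCat.ofHom (algebraMap k T) := by
    refine Spec.map_injective ?_
    rw [Spec.map_comp, hφ]
    exact Over.w x
  exact ⟨{ φ.hom with commutes' := fun r => congrArg (fun ψ => ψ.hom r) h }, Over.OverMorphism.ext hφ⟩

/-- The largest closed subscheme `H ⊆ P` with `H_K ⊆ N`. -/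
theorem exists_largest {P : Over (Spec (CommRingCat.of k))} [IsAffine P.left] {N : Over (Spec (CommRingCat.of K))}
    (j : N ⟶ Red.bc (AbVar.ext k K) P) [IsClosedImmersion j.left] :
    ∃ (H : Over (Spec (CommRingCat.of k))) (i : H ⟶ P), IsClosedImmersion i.left ∧
      (∃ t, t ≫ j = (Over.pullback (AbVar.ext k K)).map i) ∧
      ∀ (T : Over (Spec (CommRingCat.of k))) [IsAffine T.left] (x : T ⟶ P),
        (∃ t, t ≫ j = (Over.pullback (AbVar.ext k K)).map x) → ∃ v, v ≫ i = x := by
  let F := Over.pullback (AbVar.ext k K)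
  obtain ⟨R, _, _, ⟨e⟩⟩ := exists_iso_specOver P
  haveI : IsIso (F.map e.hom).left := inferInstanceAs (IsIso ((Over.forget _).map (F.map e.hom)))
  haveI : IsClosedImmersion (j ≫ F.map e.hom).left := inferInstanceAs (IsClosedImmersion (j.left ≫ (F.map e.hom).left))
  obtain ⟨J, hJ⟩ := exists_largest_spec R (j ≫ F.map e.hom : N ⟶ Red.bc (AbVar.ext k K) (specOver k R))
  let i : specOver k (R ⧸ J) ⟶ P := specHom (Ideal.Quotient.mkₐ k J) ≫ e.inv
  haveI : IsClosedImmersion (specHom (Ideal.Quotient.mkₐ k J)).left :=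
    IsClosedImmersion.spec_of_surjective (CommRingCat.ofHom (Ideal.Quotient.mkₐ k J).toRingHom) Ideal.Quotient.mk_surjective
  haveI : IsIso e.inv.left := inferInstanceAs (IsIso ((Over.forget _).map e.inv))
  refine ⟨specOver k (R ⧸ J), i, inferInstanceAs (IsClosedImmersion ((specHom _).left ≫ e.inv.left)), ?_, ?_⟩
  · obtain ⟨t, ht⟩ := (hJ (R ⧸ J) (Ideal.Quotient.mkₐ k J)).1 (fun x hx => Ideal.Quotient.eq_zero_iff_mem.2 hx)
    exact ⟨t, (cancel_mono (F.map e.hom)).1 (by
      rw [Category.assoc, ht, ← F.map_comp, Category.assoc, Iso.inv_hom_id, Category.comp_id])⟩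
  · intro T _ x ⟨t, ht⟩
    obtain ⟨S, _, _, ⟨eT⟩⟩ := exists_iso_specOver T
    obtain ⟨f, hf⟩ := exists_specHom (eT.inv ≫ x ≫ e.hom)
    have h := (hJ S f).2 ⟨F.map eT.inv ≫ t, by
      rw [hf, F.map_comp, F.map_comp, Category.assoc, ← Category.assoc t, ht]⟩
    let g : R ⧸ J →ₐ[k] S := Ideal.Quotient.liftₐ J f fun r hr => h hr
    refine ⟨eT.hom ≫ specHom g, ?_⟩
    have hg : specHom g ≫ specHom (Ideal.Quotient.mkₐ k J) = specHom f := by
      refine Over.OverMorphism.ext ?_
      show Spec.map _ ≫ Spec.map _ = Spec.map _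
      rw [← Spec.map_comp]
      congr 1
    show (eT.hom ≫ specHom g) ≫ specHom _ ≫ e.inv = x
    rw [Category.assoc, ← Category.assoc (specHom g), hg, hf, Category.assoc, Category.assoc, Iso.hom_inv_id,
      Category.comp_id, Iso.hom_inv_id_assoc]

/-- The largest closed subgroup `H ⊆ P` with `H_K ⊆ N`. -/
theorem exists_largest_subgroup {P : Over (Spec (CommRingCat.of k))} [IsAffine P.left] [GrpObj P]
    {N : Over (Spec (CommRingCat.of K))} [GrpObj N]
    (j : N ⟶ Red.bc (AbVar.ext k K) P) [IsClosedImmersion j.left] [IsMonHom j] :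
    ∃ (H : Over (Spec (CommRingCat.of k))) (_ : GrpObj H) (i : H ⟶ P), IsMonHom i ∧ IsClosedImmersion i.left ∧
      (∃ t, t ≫ j = (Over.pullback (AbVar.ext k K)).map i) ∧
      ∀ (T : Over (Spec (CommRingCat.of k))) [IsAffine T.left] (x : T ⟶ P),
        (∃ t, t ≫ j = (Over.pullback (AbVar.ext k K)).map x) → ∃ v, v ≫ i = x := by
  let F := Over.pullback (AbVar.ext k K)
  obtain ⟨H, i, hic, ⟨t, ht⟩, hu⟩ := exists_largest j
  haveI := hic
  haveI : Mono i := Over.mono_of_mono_left _
  haveI : IsAffine H.left := isAffine_of_isAffineHom i.left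
  haveI : IsAffine (H ⊗ H).left := inferInstanceAs (IsAffine (pullback H.hom H.hom))
  haveI : IsAffine (𝟙_ (Over (Spec (CommRingCat.of k)))).left := inferInstanceAs (IsAffine (Spec (CommRingCat.of k)))
  have hmul : ∀ {T : Over (Spec (CommRingCat.of k))} (a b : T ⟶ H),
      ∃ s, s ≫ j = F.map ((a ≫ i) * (b ≫ i)) := fun {T} a b =>
    ⟨(F.map a ≫ t) * (F.map b ≫ t), by
      rw [MonObj.mul_comp, Category.assoc, Category.assoc, ht, ← F.map_comp, ← F.map_comp]
      exact (map_mul (Functor.homMonoidHom F) (a ≫ i) (b ≫ i)).symm⟩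
  obtain ⟨e₀, he₀⟩ := hu _ η[P] ⟨1, by
    rw [MonObj.one_comp, show η[P] = (1 : _ ⟶ P) by rw [Hom.one_def, toUnit_unique (toUnit _) (𝟙 _), Category.id_comp]]
    exact (map_one (Functor.homMonoidHom F)).symm⟩
  obtain ⟨m₀, hm₀⟩ := hu _ ((i ⊗ₘ i) ≫ μ[P]) (by
    rw [show (i ⊗ₘ i) ≫ μ[P] = (fst H H ≫ i) * (snd H H ≫ i) by rw [Hom.mul_def]; congr 1]
    exact hmul _ _)
  obtain ⟨i₀, hi₀⟩ := hu _ (i ≫ ι[P]) ⟨t⁻¹, by
    rw [GrpObj.inv_comp, ht, ← Hom.inv_def]
    exact (map_inv (Functor.homMonoidHom F) i).symm⟩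
  obtain ⟨gH, hi⟩ := H19Grp.exists_grpObj_of_mono P i e₀ he₀ m₀ hm₀ i₀ hi₀
  exact ⟨H, gH, i, hi, hic, ⟨t, ht⟩, hu⟩

end Groth.Agent.H25Chow
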