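import Groth.Agent.H25Chow.Primary
import Groth.Agent.H25Chow.Largest

/-!
# Finite schemes over primary and regular extensions
-/

set_option autoImplicit false
set_option linter.style.haveILetI false
set_option linter.unusedSectionVars false
set_option backward.isDefEq.respectTransparency false
set_option synthInstance.maxHeartbeats 200000
universe u

open CategoryTheory CategoryTheory.Limits AlgebraicGeometry
open scoped TensorProduct
open Groth.Agent

noncomputable section

namespace Groth.Agent.H25Chow

/-- A finite extension stays local over a primary extension. -/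
theorem subsingleton_primeSpectrum {k K L : Type u} [Field k] [Field K] [Field L] [Algebra k K] [Algebra k L]
    [Module.Finite k L] (hK : AbVar.IsPrimaryExt k K) : Subsingleton (PrimeSpectrum (L ⊗[k] K)) := by
  classical
  let Ω := AlgebraicClosure K
  letI : Algebra K (L ⊗[k] K) := Algebra.TensorProduct.rightAlgebra
  have key : ∀ p : PrimeSpectrum (L ⊗[k] K), ∃ φ : L →ₐ[k] Ω, p.asIdeal =
      RingHom.ker (Algebra.TensorProduct.lift φ (IsScalarTower.toAlgHom k K Ω) fun _ _ => Commute.all _ _) := by
    intro p
    let L' := FractionRing ((L ⊗[k] K) ⧸ p.asIdeal)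
    haveI : IsScalarTower k K (L ⊗[k] K) := Algebra.TensorProduct.right_isScalarTower
    haveI : Module.Finite K (L ⊗[k] K) :=
      Module.Finite.of_surjective
        ({ (Algebra.TensorProduct.comm k K L).toRingEquiv.toRingHom with
            commutes' := fun x => by simp [Algebra.TensorProduct.right_algebraMap_apply] } :
          K ⊗[k] L →ₐ[K] L ⊗[k] K).toLinearMap (Algebra.TensorProduct.comm k K L).surjective
    haveI : Module.Finite K ((L ⊗[k] K) ⧸ p.asIdeal) := inferInstance
    letI : Field ((L ⊗[k] K) ⧸ p.asIdeal) :=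
      (Algebra.IsIntegral.isField_iff_isField (R := K) (S := (L ⊗[k] K) ⧸ p.asIdeal)
        (FaithfulSMul.algebraMap_injective K _)).1 (Field.toIsField K) |>.toField
    let ι : (L ⊗[k] K) ⧸ p.asIdeal →ₐ[K] Ω := IsAlgClosed.lift
    refine ⟨((ι.comp (Ideal.Quotient.mkₐ K p.asIdeal)).restrictScalars k).comp Algebra.TensorProduct.includeLeft, ?_⟩
    have hx : ∀ x, Algebra.TensorProduct.lift (((ι.comp (Ideal.Quotient.mkₐ K p.asIdeal)).restrictScalars k).comp
        Algebra.TensorProduct.includeLeft) (IsScalarTower.toAlgHom k K Ω) (fun _ _ => Commute.all _ _) x =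
        ι (Ideal.Quotient.mk p.asIdeal x) := fun x => by
      induction x using TensorProduct.induction_on with
      | zero => simp
      | tmul l a =>
        rw [show (l ⊗ₜ[k] a : L ⊗[k] K) = (l ⊗ₜ 1) * (1 ⊗ₜ a) by simp, map_mul, map_mul, map_mul]
        congr 1
        · simp
        · simp only [Algebra.TensorProduct.lift_tmul, map_one, one_mul, IsScalarTower.coe_toAlgHom']
          exact ((ι.comp (Ideal.Quotient.mkₐ K p.asIdeal)).commutes a).symm
      | add x y hx hy => simp [hx, hy]
    ext x
    rw [RingHom.mem_ker, hx, map_eq_zero]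
    exact Ideal.Quotient.eq_zero_iff_mem.symm
  refine ⟨fun p p' => ?_⟩
  obtain ⟨φ, hp⟩ := key p
  obtain ⟨φ', hp'⟩ := key p'
  let l := separableClosure k L
  obtain ⟨τ, hτ⟩ := exists_conj hK (φ.comp l.val) (φ'.comp l.val)
  have h : (τ.toAlgHom.restrictScalars k).comp φ = φ' :=
    AlgHom.coe_ringHom_injective (IsPurelyInseparable.injective_comp_algebraMap l L Ω (RingHom.ext fun x => hτ x))
  have hx : ∀ x, τ (Algebra.TensorProduct.lift φ (IsScalarTower.toAlgHom k K Ω) (fun _ _ => Commute.all _ _) x) =
      Algebra.TensorProduct.lift φ' (IsScalarTower.toAlgHom k K Ω) (fun _ _ => Commute.all _ _) x := fun x => by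
    induction x using TensorProduct.induction_on with
    | zero => simp
    | tmul a c => simp [← h]
    | add x y hx hy => simp [hx, hy]
  refine PrimeSpectrum.ext ?_
  rw [hp, hp']
  ext x
  rw [RingHom.mem_ker, RingHom.mem_ker, ← hx, map_eq_zero_iff _ τ.injective]

/-- A finite extension stays a field over a regular extension. -/
theorem isField_tensor {k K : Type u} (L : Type u) [Field k] [Field K] [Field L] [Algebra k K] [Algebra k L]
    [Module.Finite k L] [GeometricallyIntegral (AbVar.ext k K)] : IsField (L ⊗[k] K) := by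
  have h : IsIntegral (pullback (Spec.map (CommRingCat.ofHom (algebraMap k L))) (AbVar.ext k K)) :=
    GeometricallyIntegral.geometrically_isIntegral (f := AbVar.ext k K) _ _ _
      (IsPullback.of_hasPullback (Spec.map (CommRingCat.ofHom (algebraMap k L))) (AbVar.ext k K)).flip
  haveI : IsIntegral (Spec (CommRingCat.of (L ⊗[k] K))) := isIntegral_of_isOpenImmersion (pullbackSpecIso k L K).inv
  haveI : IsDomain (L ⊗[k] K) := (affine_isIntegral_iff (CommRingCat.of (L ⊗[k] K))).1 inferInstance
  letI : Algebra K (L ⊗[k] K) := Algebra.TensorProduct.rightAlgebra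
  haveI : IsScalarTower k K (L ⊗[k] K) := Algebra.TensorProduct.right_isScalarTower
  haveI : Module.Finite K (L ⊗[k] K) :=
    Module.Finite.of_surjective
      ({ (Algebra.TensorProduct.comm k K L).toRingEquiv.toRingHom with
          commutes' := fun x => by simp [Algebra.TensorProduct.right_algebraMap_apply] } :
        K ⊗[k] L →ₐ[K] L ⊗[k] K).toLinearMap (Algebra.TensorProduct.comm k K L).surjective
  exact (Algebra.IsIntegral.isField_iff_isField (R := K) (S := L ⊗[k] K)
    (FaithfulSMul.algebraMap_injective K _)).1 (Field.toIsField K)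

/-- Regular extensions are primary. -/
theorem isPrimaryExt_of_regular {k K : Type u} [Field k] [Field K] [Algebra k K]
    [GeometricallyIntegral (AbVar.ext k K)] : AbVar.IsPrimaryExt k K := by
  intro x hx
  let L := IntermediateField.adjoin k ({x} : Set K)
  haveI : Module.Finite k L := IntermediateField.adjoin.finiteDimensional hx.isIntegral
  letI : Field (L ⊗[k] K) := (isField_tensor L).toField
  let m : L ⊗[k] K →ₐ[k] K := Algebra.TensorProduct.lift L.val (AlgHom.id k K) fun _ _ => Commute.all _ _
  have h1 : ((⟨x, IntermediateField.mem_adjoin_simple_self k x⟩ : L) ⊗ₜ[k] (1 : K)) = (1 : L) ⊗ₜ[k] x :=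
    m.toRingHom.injective (by simp [m])
  by_contra hx'
  have hξ : (⟨x, IntermediateField.mem_adjoin_simple_self k x⟩ : L) ∉ Submodule.span k {(1 : L)} := fun h => by
    obtain ⟨a, ha⟩ := Submodule.mem_span_singleton.1 h
    exact hx' ⟨a, by rw [Algebra.algebraMap_eq_smul_one]; exact congrArg Subtype.val ha⟩
  obtain ⟨φ, hφ0, hφ⟩ := Submodule.exists_dual_map_eq_bot_of_notMem hξ inferInstance
  have hφ1 : φ 1 = 0 := by
    have : φ 1 ∈ Submodule.map φ (Submodule.span k {(1 : L)}) := ⟨1, Submodule.mem_span_singleton_self 1, rfl⟩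
    rwa [hφ, Submodule.mem_bot] at this
  have h3 := congrArg ((TensorProduct.lid k K).toLinearMap ∘ₗ φ.rTensor K) h1
  simp [hφ1, hφ0] at h3

end Groth.Agent.H25Chow
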