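import Groth.Agent.H25Chow.Descent
import Groth.Agent.H25AbCube.HomDescent

/-!
# Homomorphisms of abelian varieties descend along primary extensions
-/

set_option autoImplicit false
set_option linter.style.haveILetI false
set_option linter.unusedSectionVars false
set_option backward.isDefEq.respectTransparency false
set_option synthInstance.maxHeartbeats 200000
universe u

open CategoryTheory CategoryTheory.Limits MonoidalCategory CartesianMonoidalCategory MonObj GrpObj AlgebraicGeometry
open Groth.Agent Groth.Agent.H25AbCube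

noncomputable section

namespace Groth.Agent.H25Chow

variable {k K : Type u} [Field k] [Field K] [Algebra k K]

theorem flat_ext : Flat (AbVar.ext k K) :=
  Flat.SpecMap_iff.2 (RingHom.flat_algebraMap_iff.2 inferInstance)

/-- Being an isomorphism descends along a field extension. -/
theorem isIso_of_bc {X Y : Over (Spec (CommRingCat.of k))} (f : X ⟶ Y)
    (h : IsIso ((Over.pullback (AbVar.ext k K)).map f)) : IsIso f := by
  haveI : Flat (AbVar.ext k K) := flat_ext
  haveI : Surjective (AbVar.ext k K) := surjective_ext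
  let F := Over.pullback (AbVar.ext k K)
  haveI := h
  haveI : IsIso (F.map f).left := inferInstanceAs (IsIso ((Over.forget _).map (F.map f)))
  haveI : IsIso f.left :=
    MorphismProperty.of_isPullback_of_descendsAlong (P := MorphismProperty.isomorphisms Scheme.{u})
      (Q := @Surjective ⊓ @Flat ⊓ @QuasiCompact) (H19Grp.isPullback_map (AbVar.ext k K) f).flip
      ⟨⟨MorphismProperty.pullback_fst _ _ ‹Surjective (AbVar.ext k K)›,
        MorphismProperty.pullback_fst _ _ ‹Flat (AbVar.ext k K)›⟩,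
        MorphismProperty.pullback_fst _ _ (inferInstance : QuasiCompact (AbVar.ext k K))⟩ ‹_›
  haveI : IsIso ((Over.forget _).map f) := ‹IsIso f.left›
  exact isIso_of_reflects_iso f (Over.forget _)

theorem map_injective {X Y : Over (Spec (CommRingCat.of k))} :
    Function.Injective ((Over.pullback (AbVar.ext k K)).map : (X ⟶ Y) → _) :=
  haveI : Flat (AbVar.ext k K) := flat_ext
  haveI : Surjective (AbVar.ext k K) := surjective_ext
  map_pullback_injective (AbVar.ext k K)

theorem isMonHom_of_map {X Y : Over (Spec (CommRingCat.of k))} [GrpObj X] [GrpObj Y] (f : X ⟶ Y)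
    (h : IsMonHom ((Over.pullback (AbVar.ext k K)).map f : Red.bc (AbVar.ext k K) X ⟶ Red.bc (AbVar.ext k K) Y))
    [IsProper X.hom] [GeometricallyIntegral X.hom] [IsProper Y.hom] [GeometricallyIntegral Y.hom] : IsMonHom f := by
  let F := Over.pullback (AbVar.ext k K)
  refine H25Rig.isMonHom_of_one_hom f (map_injective (K := K) ?_)
  haveI := h
  have h1 := IsMonHom.one_hom (f := (F.map f : Red.bc (AbVar.ext k K) X ⟶ Red.bc (AbVar.ext k K) Y))
  rw [Functor.obj.η_def, Functor.obj.η_def, Category.assoc, ← Functor.map_comp] at h1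
  exact (cancel_epi _).1 h1

/-- Homomorphisms over a primary extension come from the ground field. -/
theorem exists_hom (hK : AbVar.IsPrimaryExt k K)
    (B C : Over (Spec (CommRingCat.of k))) [GrpObj B] [IsProper B.hom] [GeometricallyIntegral B.hom]
    [GrpObj C] [IsProper C.hom] [GeometricallyIntegral C.hom]
    (f : Red.bc (AbVar.ext k K) B ⟶ Red.bc (AbVar.ext k K) C) [IsMonHom f] :
    ∃ f₀ : B ⟶ C, IsMonHom f₀ ∧ (Over.pullback (AbVar.ext k K)).map f₀ = f := by
  let F := Over.pullback (AbVar.ext k K)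
  let σK := AbVar.ext k K
  haveI : IsCommMonObj B := isCommMonObj_of_av
  haveI : IsCommMonObj C := isCommMonObj_of_av
  haveI : IsProper (B ⊗ C).hom := inferInstanceAs (IsProper (pullback.fst B.hom C.hom ≫ B.hom))
  haveI : GeometricallyIntegral (B ⊗ C).hom := H25Rig.geometricallyIntegral_tensor B C
  haveI : IsProper (Red.bc σK B).hom := MorphismProperty.pullback_snd _ _ inferInstance
  haveI : GeometricallyIntegral (Red.bc σK B).hom := MorphismProperty.pullback_snd _ _ inferInstance
  haveI : IsProper (Red.bc σK (B ⊗ C)).hom := MorphismProperty.pullback_snd _ _ inferInstance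
  haveI : GeometricallyIntegral (Red.bc σK (B ⊗ C)).hom := MorphismProperty.pullback_snd _ _ inferInstance
  haveI : IsCommMonObj (Red.bc σK (B ⊗ C)) := isCommMonObj_of_av
  let i' : Red.bc σK B ⟶ Red.bc σK (B ⊗ C) :=
    (F.map (lift (𝟙 B) (1 : B ⟶ C)) : Red.bc σK B ⟶ Red.bc σK (B ⊗ C)) *
      (f ≫ (F.map (lift (1 : C ⟶ B) (𝟙 C)) : Red.bc σK C ⟶ Red.bc σK (B ⊗ C)))
  haveI : IsMonHom (1 : B ⟶ C) := H25Rig.isMonHom_of_one_hom _ (MonObj.comp_one _ |>.trans (by
    rw [Hom.one_def, toUnit_unique (toUnit _) (𝟙 _), Category.id_comp]))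
  haveI : IsMonHom (1 : C ⟶ B) := H25Rig.isMonHom_of_one_hom _ (MonObj.comp_one _ |>.trans (by
    rw [Hom.one_def, toUnit_unique (toUnit _) (𝟙 _), Category.id_comp]))
  haveI : IsMonHom i' := by
    haveI : IsMonHom (F.map (lift (𝟙 B) (1 : B ⟶ C)) : Red.bc σK B ⟶ Red.bc σK (B ⊗ C)) :=
      inferInstanceAs (IsMonHom (F.map _))
    haveI : IsMonHom (F.map (lift (1 : C ⟶ B) (𝟙 C)) : Red.bc σK C ⟶ Red.bc σK (B ⊗ C)) :=
      inferInstanceAs (IsMonHom (F.map _))
    show IsMonHom (lift _ _ ≫ μ[Red.bc σK (B ⊗ C)])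
    infer_instance
  have hproj : ∀ {Z : Over (Spec (CommRingCat.of k))} [GrpObj Z] (g : B ⊗ C ⟶ Z) [IsMonHom g],
      i' ≫ F.map g = (F.map (lift (𝟙 B) (1 : B ⟶ C) ≫ g) : Red.bc σK B ⟶ Red.bc σK Z) *
        (f ≫ (F.map (lift (1 : C ⟶ B) (𝟙 C) ≫ g) : Red.bc σK C ⟶ Red.bc σK Z)) := by
    intro Z _ g _
    haveI : IsMonHom (F.map g : Red.bc σK (B ⊗ C) ⟶ Red.bc σK Z) := inferInstanceAs (IsMonHom (F.map g))
    show (_ * _) ≫ (F.map g : Red.bc σK (B ⊗ C) ⟶ Red.bc σK Z) = _
    rw [MonObj.mul_comp, Category.assoc, ← F.map_comp, ← F.map_comp]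
  have hfst : i' ≫ F.map (fst B C) = 𝟙 _ := by
    refine (hproj (fst B C)).trans ?_
    rw [lift_fst, lift_fst, show (F.map (1 : C ⟶ B) : Red.bc σK C ⟶ Red.bc σK B) = 1 from
      map_one (Functor.homMonoidHom F), MonObj.comp_one, _root_.mul_one]
    exact F.map_id B
  have hsnd : i' ≫ F.map (snd B C) = f := by
    refine (hproj (snd B C)).trans ?_
    rw [lift_snd, lift_snd, show (F.map (1 : B ⟶ C) : Red.bc σK B ⟶ Red.bc σK C) = 1 from
      map_one (Functor.homMonoidHom F), _root_.one_mul]
    exact (congrArg (f ≫ ·) (F.map_id C)).trans (Category.comp_id f)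
  haveI : IsClosedImmersion i'.left := by
    haveI : IsClosedImmersion (i'.left ≫ (F.map (fst B C)).left) := by
      rw [← Over.comp_left, hfst]
      exact inferInstanceAs (IsClosedImmersion (𝟙 (Red.bc σK B).left))
    haveI : IsSeparated (F.map (fst B C)).left := by
      haveI : IsSeparated ((F.map (fst B C)).left ≫ (F.obj B).hom) := by rw [Over.w]; infer_instance
      exact IsSeparated.of_comp _ (F.obj B).hom
    exact IsClosedImmersion.of_comp _ (F.map (fst B C)).left
  obtain ⟨M, gM, i, h1, h2, h3, h4, e, he⟩ := exists_descent hK (B ⊗ C) (Red.bc σK B) i'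
  haveI := h1; haveI := h2; haveI := h3
  have hq : F.map (i ≫ fst B C) = e.hom := by
    rw [F.map_comp, ← he]
    exact (Category.assoc _ _ _).trans ((congrArg (e.hom ≫ ·) hfst).trans (Category.comp_id _))
  haveI : IsIso (i ≫ fst B C) := isIso_of_bc (K := K) _ (by rw [hq]; infer_instance)
  haveI : IsMonHom (inv (i ≫ fst B C)) := H25Rig.isMonHom_of_one_hom _ (by
    rw [IsIso.comp_inv_eq]; exact (IsMonHom.one_hom (i ≫ fst B C)).symm)
  refine ⟨inv (i ≫ fst B C) ≫ i ≫ snd B C, inferInstance, ?_⟩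
  rw [F.map_comp, F.map_inv, IsIso.inv_comp_eq, hq, F.map_comp i, ← he]
  exact (Category.assoc _ _ _).trans (congrArg (e.hom ≫ ·) hsnd)

end Groth.Agent.H25Chow
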