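import Groth.Agent.H25Chow.PureInsep

/-!
# Geometric points of isogenies and their Tate modules
-/

set_option autoImplicit false
set_option linter.style.haveILetI false
set_option linter.unusedSectionVars false
set_option backward.isDefEq.respectTransparency false
set_option synthInstance.maxHeartbeats 400000
set_option maxHeartbeats 1000000
universe u

open CategoryTheory CategoryTheory.Limits MonoidalCategory CartesianMonoidalCategory MonObj GrpObj AlgebraicGeometry
open Groth.Agent Groth.Agent.H25AbCube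

noncomputable section

namespace Groth.Agent.H25Chow

section group

variable {X Y : Type*} [AddCommGroup X] [AddCommGroup Y] (l : ℕ) (f : X →+ Y)

/-- Preimages of `l`-power torsion can be chosen of `l`-power order. -/
theorem exists_torsion_lift (hl : l.Prime) (hf : Function.Surjective f) [Finite f.ker] (y : Y) (n : ℕ)
    (hy : l ^ n • y = 0) : ∃ x, f x = y ∧ ∃ a, l ^ a • x = 0 := by
  obtain ⟨x, rfl⟩ := hf y
  let c : f.ker := ⟨l ^ n • x, by rw [AddMonoidHom.mem_ker, map_nsmul, hy]⟩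
  have hc : 0 < addOrderOf c := addOrderOf_pos c
  obtain ⟨a, m, hm, hord⟩ := Nat.exists_eq_pow_mul_and_not_dvd hc.ne' l hl.ne_one
  have h0 : (l ^ n * (l ^ a * m)) • x = 0 := by
    have h := congrArg Subtype.val (addOrderOf_nsmul_eq_zero c)
    rw [hord] at h
    rw [_root_.mul_comm, mul_smul]
    simpa [c] using h
  have hco : Nat.Coprime (l ^ (n + a)) m := ((hl.coprime_iff_not_dvd).2 hm).pow_left _
  obtain ⟨e, he1, he2⟩ := Nat.chineseRemainder hco 1 0
  refine ⟨e • x, ?_, n + a, ?_⟩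
  · rw [map_nsmul]
    have h1 : e ≡ 1 [MOD l ^ n] := Nat.ModEq.of_dvd (pow_dvd_pow l (Nat.le_add_right n a)) he1
    have h2 : addOrderOf (f x) ∣ l ^ n := addOrderOf_dvd_iff_nsmul_eq_zero.2 hy
    conv_rhs => rw [← one_nsmul (f x)]
    exact nsmul_eq_nsmul_iff_modEq.2 (h1.of_dvd h2)
  · obtain ⟨q, rfl⟩ := (Nat.modEq_zero_iff_dvd).1 he2
    rw [smul_smul, show l ^ (n + a) * (m * q) = q * (l ^ n * (l ^ a * m)) by ring, mul_smul, h0, smul_zero]

/-- An element of a finite subgroup of `l`-power order is killed by a fixed power. -/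
theorem exists_uniform (hl : l.Prime) [Finite f.ker] :
    ∃ M, ∀ x, f x = 0 → (∃ a, l ^ a • x = 0) → l ^ M • x = 0 := by
  refine ⟨Nat.card f.ker, fun x hx ⟨a, ha⟩ => ?_⟩
  let c : f.ker := ⟨x, hx⟩
  have hc0 : l ^ a • c = 0 := Subtype.ext ((AddSubgroup.coe_nsmul _ _ _).trans ha)
  obtain ⟨b, -, hb⟩ := (Nat.dvd_prime_pow hl).1 (addOrderOf_dvd_iff_nsmul_eq_zero.2 hc0)
  have hle : b ≤ Nat.card f.ker :=
    (b.lt_pow_self hl.one_lt).le.trans ((hb ▸ Nat.le_of_dvd Nat.card_pos (addOrderOf_dvd_natCard c)))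
  have hdvd : addOrderOf c ∣ l ^ Nat.card f.ker := by rw [hb]; exact pow_dvd_pow l hle
  have h : (l ^ Nat.card f.ker • c : f.ker) = 0 := addOrderOf_dvd_iff_nsmul_eq_zero.1 hdvd
  exact (AddSubgroup.coe_nsmul f.ker c _).symm.trans (congrArg Subtype.val h)

/-- Injectivity of the Tate map of a map with finite kernel. -/
theorem eq_zero_of_seq (hl : l.Prime) [Finite f.ker] (x : ℕ → X) (h0 : ∀ n, l ^ n • x n = 0)
    (h1 : ∀ n, l • x (n + 1) = x n) (hx : ∀ n, f (x n) = 0) (n : ℕ) : x n = 0 := by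
  obtain ⟨M, hM⟩ := exists_uniform l f hl
  have : ∀ j n, l ^ j • x (n + j) = x n := fun j => by
    induction j with
    | zero => simp
    | succ j ih => intro n; rw [pow_succ, mul_smul, ← _root_.add_assoc, h1, ih]
  rw [← this M n]
  exact hM _ (hx _) ⟨_, h0 _⟩

/-- The connecting map from the Tate sequences of the target to the `l`-power torsion of the kernel. -/
theorem exists_delta (hl : l.Prime) (hf : Function.Surjective f) (hdiv : Function.Surjective fun x : X => l • x)
    [Finite f.ker] :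
    ∃ M, (∀ y : ℕ → Y, (∀ n, l ^ n • y n = 0) → (∀ n, l • y (n + 1) = y n) →
      ∃! a : X, ∃ x, f x = y M ∧ (∃ b, l ^ b • x = 0) ∧ l ^ M • x = a) ∧
      (∀ a, f a = 0 → (∃ b, l ^ b • a = 0) → ∃ y : ℕ → Y, (∀ n, l ^ n • y n = 0) ∧ (∀ n, l • y (n + 1) = y n) ∧
        ∃ x, f x = y M ∧ (∃ b, l ^ b • x = 0) ∧ l ^ M • x = a) ∧
      (∀ y : ℕ → Y, (∀ n, l ^ n • y n = 0) → (∀ n, l • y (n + 1) = y n) →
        (∃ x, f x = y M ∧ (∃ b, l ^ b • x = 0) ∧ l ^ M • x = 0) →
        ∃ z : ℕ → X, (∀ n, l ^ n • z n = 0) ∧ (∀ n, l • z (n + 1) = z n) ∧ ∀ n, f (z n) = y n) := by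
  obtain ⟨M, hM⟩ := exists_uniform l f hl
  have huniq : ∀ {x x' : X}, f x = f x' → (∃ b, l ^ b • x = 0) → (∃ b, l ^ b • x' = 0) → l ^ M • x = l ^ M • x' := by
    rintro x x' h ⟨b, hb⟩ ⟨b', hb'⟩
    rw [← sub_eq_zero, ← smul_sub]
    refine hM _ (by rw [map_sub, h, sub_self]) ⟨b + b', ?_⟩
    rw [smul_sub, pow_add, mul_smul, mul_smul, hb', smul_zero, smul_comm, hb, smul_zero, sub_zero]
  refine ⟨M, fun y h0 h1 => ?_, fun a ha ⟨b, hb⟩ => ?_, fun y h0 h1 ⟨x, hx, hxb, hxM⟩ => ?_⟩
  · obtain ⟨x, hx, hxb⟩ := exists_torsion_lift l f hl hf (y M) M (h0 M)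
    exact ⟨_, ⟨x, hx, hxb, rfl⟩, fun a ⟨x', hx', hxb', ha⟩ => ha ▸ huniq (hx'.trans hx.symm) hxb' hxb⟩
  · choose d hd using hdiv
    replace hd : ∀ x, l • d x = x := hd
    let z : ℕ → X := fun n => d^[n] a
    have hz : ∀ n, l • z (n + 1) = z n := fun n => by
      show l • d^[n + 1] a = _
      rw [Function.iterate_succ_apply']
      exact hd _
    have hzn : ∀ n, l ^ n • z n = a := fun n => by
      induction n with
      | zero => simp [z]
      | succ n ih => rw [pow_succ, mul_smul, hz, ih]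
    refine ⟨fun n => f (z n), fun n => by rw [← map_nsmul, hzn, ha], fun n => by rw [← map_nsmul, hz],
      z M, rfl, ⟨b + M, ?_⟩, hzn M⟩
    rw [pow_add, mul_smul, hzn, hb]
  · choose g hg hgb using fun n => exists_torsion_lift l f hl hf (y n) n (h0 n)
    have key : ∀ n, l ^ M • l • g (n + 1) = l ^ M • g n := fun n => huniq
      (by rw [map_nsmul, hg, hg, h1]) (by obtain ⟨c, hc⟩ := hgb (n + 1); exact ⟨c, by rw [smul_comm, hc, smul_zero]⟩)
      (hgb n)
    let w : ℕ → X := fun n => l ^ M • g (n + M)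
    have hw : ∀ n, l • w (n + 1) = w n := fun n => by
      show l • l ^ M • g (n + 1 + M) = l ^ M • g (n + M)
      rw [smul_comm, show n + 1 + M = n + M + 1 by omega, key]
    have hw0 : ∀ n, l ^ n • w n = w 0 := fun n => by
      induction n with
      | zero => simp
      | succ n ih => rw [pow_succ, mul_smul, hw, ih]
    have hy : ∀ j n, l ^ j • y (n + j) = y n := fun j => by
      induction j with
      | zero => simp
      | succ j ih => intro n; rw [pow_succ, mul_smul, ← _root_.add_assoc, h1, ih]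
    refine ⟨w, fun n => ?_, hw, fun n => by rw [map_nsmul, hg, hy]⟩
    rw [hw0, show w 0 = l ^ M • g M by simp [w], huniq ((hg M).trans hx.symm) (hgb M) hxb, hxM]

end group

variable {k : Type u} [Field k] (Ω : Type u) [Field Ω] [Algebra k Ω]

/-- The geometric points killed by a positive integer are finite in number. -/
theorem finite_pow_ker {X : Over (Spec (CommRingCat.of k))} [GrpObj X] [IsCommMonObj X] [IsProper X.hom]
    [GeometricallyIntegral X.hom] {n : ℕ} (hn : 0 < n) : Finite {x : SGA7.pt Ω ⟶ X // x ^ n = 1} := by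
  haveI : IsMonHom ((𝟙 X) ^ n : X ⟶ X) := isMonHom_pow n
  haveI : IsFinite ((𝟙 X) ^ n : X ⟶ X).left := isFinite_pow hn
  obtain ⟨P, gP, i, hi, hic, hker⟩ := H19Grp.AffineQuotient.exists_kernel ((𝟙 X) ^ n : X ⟶ X)
  haveI := hic
  haveI : IsFinite P.hom := isFinite_kernel _ hker
  haveI := finite_pt_hom (Ω := Ω) P
  choose m hm using fun x : {x : SGA7.pt Ω ⟶ X // x ^ n = 1} =>
    H19Grp.kernel_lift hker x.1 (by rw [MonObj.comp_pow, Category.comp_id, x.2])
  exact Finite.of_injective m fun a b h => Subtype.ext (by rw [← hm a, ← hm b, h])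

/-- Finite surjective morphisms are surjective on geometric points. -/
theorem surjective_pt_comp [IsAlgClosed Ω] {X Y : Over (Spec (CommRingCat.of k))} (f : X ⟶ Y) [IsFinite f.left]
    [Surjective f.left] : Function.Surjective fun x : SGA7.pt Ω ⟶ X => x ≫ f := by
  intro y
  let P := pullback f.left y.left
  let q : P ⟶ Spec (CommRingCat.of Ω) := pullback.snd f.left y.left
  haveI : IsFinite q := MorphismProperty.pullback_snd (P := @IsFinite) _ _ inferInstance
  haveI : Surjective q := MorphismProperty.pullback_snd (P := @Surjective) _ _ inferInstance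
  haveI : IsFinite (Over.mk q).hom := ‹IsFinite q›
  obtain ⟨-, hd⟩ := discreteTopology_of_finite (Over.mk q)
  haveI : DiscreteTopology P := hd
  obtain ⟨o, -⟩ := q.surjective (IsLocalRing.closedPoint Ω)
  let p := (pointEquivClosedPoint q).symm ⟨o, isClosed_discrete _⟩
  have hw : (p.1 ≫ pullback.fst f.left y.left) ≫ f.left = y.left := by
    rw [Category.assoc, pullback.condition, ← Category.assoc,
      show p.1 ≫ pullback.snd f.left y.left = 𝟙 _ from p.2]
    exact Category.id_comp _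
  refine ⟨Over.homMk (p.1 ≫ pullback.fst f.left y.left) ?_, Over.OverMorphism.ext hw⟩
  rw [← Over.w f, ← Category.assoc, hw, Over.w y]

end Groth.Agent.H25Chow
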