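import Mathlib
import Groth.Prelude.Def_W4bk6langav68Chow

/-!
# Primary extensions and conjugate embeddings
-/

set_option autoImplicit false
set_option linter.style.haveILetI false
set_option backward.isDefEq.respectTransparency false
universe u

open Polynomial

noncomputable section

namespace Groth.Agent.H25Chow

/-- Over a primary extension separable minimal polynomials do not change. -/
theorem minpoly_eq_of_primary {k K Ω : Type u} [Field k] [Field K] [Field Ω] [Algebra k K] [Algebra k Ω] [Algebra K Ω]
    [IsScalarTower k K Ω] [IsAlgClosed Ω] (hK : AbVar.IsPrimaryExt k K) {θ : Ω} (hθ : IsSeparable k θ) :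
    minpoly K θ = (minpoly k θ).map (algebraMap k K) := by
  set f := minpoly k θ with hf
  have hfi : IsIntegral k θ := hθ.isIntegral
  have hgi : IsIntegral K θ := hfi.tower_top
  set g := minpoly K θ with hg
  have hdvd : g ∣ f.map (algebraMap k K) := minpoly.dvd_map_of_isScalarTower k K θ
  -- the coefficients are separable over `k`
  have hgΩ : g.map (algebraMap K Ω) ∈ Polynomial.lifts (algebraMap (separableClosure k Ω) Ω) := by
    rw [(IsAlgClosed.splits (g.map (algebraMap K Ω))).eq_prod_roots_of_monic ((minpoly.monic hgi).map _)]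
    refine multiset_prod_mem _ fun q hq => ?_
    obtain ⟨r, hr, rfl⟩ := Multiset.mem_map.1 hq
    refine (lifts_iff_liftsRing _ _).2 (sub_mem ((lifts_iff_liftsRing _ _).1 (X_mem_lifts _))
      ((lifts_iff_liftsRing _ _).1 (C'_mem_lifts ?_)))
    have hroot : (f.map (algebraMap k K) |>.map (algebraMap K Ω)).IsRoot r :=
      (Polynomial.mem_roots'.1 hr).2.dvd (Polynomial.map_dvd _ hdvd)
    have hsep : IsSeparable k r := by
      have h0 : Polynomial.aeval r f = 0 := by
        rw [Polynomial.map_map, ← IsScalarTower.algebraMap_eq, Polynomial.IsRoot, Polynomial.eval_map] at hroot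
        exact hroot
      exact Polynomial.Separable.of_dvd hθ (minpoly.dvd k r h0)
    exact ⟨⟨r, mem_separableClosure_iff.2 hsep⟩, rfl⟩
  have hmem : ∀ j, g.coeff j ∈ (algebraMap k K).range := fun j => by
    refine hK _ ?_
    obtain ⟨c, hc⟩ := (Polynomial.lifts_iff_coeff_lifts _).1 hgΩ j
    rw [Polynomial.coeff_map] at hc
    have hs : IsSeparable k (algebraMap K Ω (g.coeff j)) := by
      rw [← hc]
      exact mem_separableClosure_iff.1 c.2
    rw [IsSeparable, minpoly.algebraMap_eq (algebraMap K Ω).injective] at hs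
    exact hs
  obtain ⟨g0, hg0⟩ := (Polynomial.lifts_iff_coeff_lifts g).2 hmem
  replace hg0 : g0.map (algebraMap k K) = g := hg0
  have hroot : Polynomial.aeval θ g0 = 0 := by
    rw [← Polynomial.aeval_map_algebraMap K θ g0, hg0]
    exact minpoly.aeval K θ
  refine eq_of_monic_of_dvd_of_natDegree_le (minpoly.monic hgi) ((minpoly.monic hfi).map _) hdvd ?_ |>.symm
  show _ ≤ g.natDegree
  rw [← hg0, Polynomial.natDegree_map, Polynomial.natDegree_map]
  exact Polynomial.natDegree_le_of_dvd (minpoly.dvd k θ hroot) fun h0 => by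
    rw [h0, Polynomial.map_zero] at hg0
    exact minpoly.ne_zero hgi hg0.symm

/-- Embeddings of a separable extension are conjugate over a primary extension. -/
theorem exists_conj {k K Ω L : Type u} [Field k] [Field K] [Field Ω] [Field L] [Algebra k K] [Algebra k Ω]
    [Algebra K Ω] [IsScalarTower k K Ω] [IsAlgClosed Ω] [Algebra.IsAlgebraic K Ω] [Algebra k L] [Module.Finite k L]
    [Algebra.IsSeparable k L] (hK : AbVar.IsPrimaryExt k K) (φ φ' : L →ₐ[k] Ω) :
    ∃ τ : Ω ≃ₐ[K] Ω, ∀ x, τ (φ x) = φ' x := by
  haveI : Normal K Ω := normal_iff.2 fun x => ⟨Algebra.IsIntegral.isIntegral x, IsAlgClosed.splits _⟩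
  obtain ⟨θ, hθ⟩ := Field.exists_primitive_element k L
  have hsep : IsSeparable k (φ θ) := by
    rw [IsSeparable, minpoly.algHom_eq φ φ.injective]
    exact Algebra.IsSeparable.isSeparable k θ
  have hroot : Polynomial.aeval (φ' θ) (minpoly K (φ θ)) = 0 := by
    rw [minpoly_eq_of_primary hK hsep, Polynomial.aeval_map_algebraMap, minpoly.algHom_eq φ φ.injective,
      Polynomial.aeval_algHom_apply, minpoly.aeval, map_zero]
  obtain ⟨τ, hτ⟩ := minpoly.exists_algEquiv_of_root' (Algebra.IsAlgebraic.isAlgebraic (R := K) (φ θ)) hroot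
  refine ⟨τ, ?_⟩
  suffices h : ((τ.toAlgHom.restrictScalars k).comp φ) = φ' from fun x => AlgHom.congr_fun h x
  refine AlgHom.ext fun x => ?_
  have htop : (⊤ : Subalgebra k L) ≤ AlgHom.equalizer ((τ.toAlgHom.restrictScalars k).comp φ) φ' := by
    rw [← IntermediateField.top_toSubalgebra, ← hθ,
      IntermediateField.adjoin_simple_toSubalgebra_of_isAlgebraic (Algebra.IsAlgebraic.isAlgebraic θ),
      Algebra.adjoin_le_iff, Set.singleton_subset_iff]
    exact hτ
  exact htop (Algebra.mem_top (x := x))

end Groth.Agent.H25Chow
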