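import Groth.Agent.H25Chow.Quot

/-!
# The trace over a regular extension is purely inseparable
-/

set_option autoImplicit false
set_option linter.style.haveILetI false
set_option linter.unusedSectionVars false
set_option backward.isDefEq.respectTransparency false
set_option synthInstance.maxHeartbeats 400000
set_option maxHeartbeats 1000000
universe u

open CategoryTheory CategoryTheory.Limits MonoidalCategory CartesianMonoidalCategory MonObj GrpObj AlgebraicGeometry
open Groth.Agent Groth.Agent.H25AbCube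

noncomputable section

namespace Groth.Agent.H25Chow

variable {k K : Type u} [Field k] [Field K] [Algebra k K]

theorem fac_lemma {S S' : Scheme.{u}} (σ : S' ⟶ S) {A C A' : Over S} {Y : Over S'} (q : A ⟶ C) (β₀ : C ⟶ A')
    (tau : Red.bc σ A' ⟶ Y) (tau' : Red.bc σ C ⟶ Y) (tau₁ : Red.bc σ A ⟶ Y)
    (h : (Over.pullback σ).map β₀ ≫ tau = tau')
    (h' : ((Over.pullback σ).map q : Red.bc σ A ⟶ Red.bc σ C) ≫ tau' = tau₁) :
    ((Over.pullback σ).map (q ≫ β₀) : Red.bc σ A ⟶ Red.bc σ A') ≫ tau = tau₁ := by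
  rw [Functor.map_comp, Category.assoc, h, h']

/-- Finite kernels meet only the origin after cancelling a finite homomorphism. -/
theorem eq_of_comp_finite {B X Y : Over (Spec (CommRingCat.of k))} [GrpObj B] [IsProper B.hom]
    [GeometricallyIntegral B.hom] [GrpObj X] [IsSeparated X.hom] [IsCommMonObj X] [GrpObj Y] [IsSeparated Y.hom]
    (t : X ⟶ Y) [IsMonHom t] [IsFinite t.left] (a b : B ⟶ X) (ha : η[B] ≫ a = η[X]) (hb : η[B] ≫ b = η[X])
    (h : a ≫ t = b ≫ t) : a = b := by
  obtain ⟨N, gN, i, hi, hic, hker⟩ := H19Grp.AffineQuotient.exists_kernel t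
  haveI := hi; haveI := hic
  haveI : Mono i := Over.mono_of_mono_left _
  haveI : IsFinite N.hom := isFinite_kernel t hker
  obtain ⟨-, hd⟩ := discreteTopology_of_finite N
  obtain ⟨n, hn⟩ := H19Grp.exists_kernel_div t hker a b h
  haveI : IsIntegral B.left := GeometricallyIntegral.isIntegral_of_subsingleton B.hom
  have hone : η[B] ≫ n = η[N] := by
    rw [← cancel_mono i, Category.assoc, hn, GrpObj.comp_div, ha, hb, div_self', IsMonHom.one_hom i, Hom.one_def,
      toUnit_unique (toUnit _) (𝟙 _), Category.id_comp]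
  have hsub : Set.range n.left ⊆ {η[N].left (IsLocalRing.closedPoint k)} := by
    rintro _ ⟨x, rfl⟩
    have he : n.left (η[B].left (IsLocalRing.closedPoint k)) = η[N].left (IsLocalRing.closedPoint k) :=
      congrArg (fun w : 𝟙_ (Over (Spec (CommRingCat.of k))) ⟶ N => w.left (IsLocalRing.closedPoint k)) hone
    rw [Set.mem_singleton_iff, ← he]
    exact (isPreconnected_range n.left.continuous).subsingleton ⟨x, rfl⟩ ⟨_, rfl⟩
  haveI : IsClosedImmersion η[N].left := isClosedImmersion_one N
  let q : pullback n.left η[N].left ⟶ B.left := pullback.fst _ _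
  haveI : IsClosedImmersion q := MorphismProperty.pullback_fst _ _ inferInstance
  haveI : Surjective q := ⟨fun o => by
    obtain ⟨w, hw, -⟩ := Scheme.Pullback.exists_preimage_pullback o (IsLocalRing.closedPoint k)
      (f := n.left) (g := η[N].left) (Set.mem_singleton_iff.1 (hsub ⟨o, rfl⟩))
    exact ⟨w, hw⟩⟩
  haveI : IsIso q := isIso_of_isClosedImmersion_of_surjective q
  have hlift : (inv q ≫ pullback.snd _ _) ≫ η[N].left = n.left := by
    rw [Category.assoc, ← pullback.condition, IsIso.inv_hom_id_assoc]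
  have hz : inv q ≫ pullback.snd n.left η[N].left = B.hom := by
    have h2 := congrArg (fun w : B.left ⟶ N.left => w ≫ N.hom) hlift
    rw [show n.left ≫ N.hom = B.hom from Over.w n, Category.assoc, Over.w η[N]] at h2
    exact ((Category.comp_id _).symm.trans h2)
  have h1 : n = 1 :=
    Over.OverMorphism.ext ((hlift.symm.trans (congrArg (· ≫ η[N].left) hz)).trans (H19Grp.one_left B).symm)
  rw [← div_eq_one, ← hn, h1, MonObj.one_comp]

/-- The trace over a regular extension is purely inseparable. -/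
theorem universallyInjective_trace [GeometricallyIntegral (AbVar.ext k K)]
    (A : Over (Spec (CommRingCat.of K))) [GrpObj A] [IsProper A.hom] [GeometricallyIntegral A.hom]
    (A' : Over (Spec (CommRingCat.of k))) [GrpObj A'] [IsProper A'.hom] [GeometricallyIntegral A'.hom]
    (tau : Red.bc (AbVar.ext k K) A' ⟶ A) (h : AbVar.IsChowTrace k K A A' tau) :
    UniversallyInjective tau.left := by
  let F := Over.pullback (AbVar.ext k K)
  haveI := h.isMonHom
  haveI := h.isFinite
  haveI : IsCommMonObj A' := isCommMonObj_of_av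
  haveI : IsProper (Red.bc (AbVar.ext k K) A').hom := MorphismProperty.pullback_snd _ _ inferInstance
  haveI : GeometricallyIntegral (Red.bc (AbVar.ext k K) A').hom := MorphismProperty.pullback_snd _ _ inferInstance
  haveI : IsCommMonObj (Red.bc (AbVar.ext k K) A') := isCommMonObj_of_av
  obtain ⟨N, gN, iN, hiN, hiNc, hkerN⟩ := H19Grp.AffineQuotient.exists_kernel tau
  haveI := hiN; haveI := hiNc
  haveI : Mono iN := Over.mono_of_mono_left _
  haveI : IsFinite N.hom := isFinite_kernel tau hkerN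
  obtain ⟨r, hr, hkill⟩ := exists_killed iN
  haveI : IsMonHom ((𝟙 A') ^ r : A' ⟶ A') := isMonHom_pow r
  haveI : IsFinite ((𝟙 A') ^ r : A' ⟶ A').left := isFinite_pow hr
  obtain ⟨P, gP, iP, hiP, hiPc, hkerP⟩ := H19Grp.AffineQuotient.exists_kernel ((𝟙 A') ^ r : A' ⟶ A')
  haveI := hiP; haveI := hiPc
  haveI : Mono iP := Over.mono_of_mono_left _
  haveI : IsFinite P.hom := isFinite_kernel _ hkerP
  haveI : IsClosedImmersion (F.map iP).left :=
    MorphismProperty.of_isPullback (P := @IsClosedImmersion) (H19Grp.isPullback_map (AbVar.ext k K) iP) ‹_›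
  have hpow : (F.map ((𝟙 A') ^ r : A' ⟶ A') : Red.bc (AbVar.ext k K) A' ⟶ Red.bc (AbVar.ext k K) A') =
      (𝟙 (Red.bc (AbVar.ext k K) A')) ^ r :=
    (map_pow (Functor.homMonoidHom F) (𝟙 A') r).trans (congrArg (· ^ r) (F.map_id A'))
  obtain ⟨j, hj⟩ := bc_kernel_lift (AbVar.ext k K) hkerP iN (by rw [hpow]; exact hkill)
  haveI : IsMonHom (F.map iP : Red.bc (AbVar.ext k K) P ⟶ Red.bc (AbVar.ext k K) A') :=
    inferInstanceAs (IsMonHom (F.map iP))
  haveI : Mono (F.map iP : Red.bc (AbVar.ext k K) P ⟶ Red.bc (AbVar.ext k K) A') := Over.mono_of_mono_left _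
  haveI : IsMonHom j := by
    refine ⟨?_, ?_⟩
    · rw [← cancel_mono (F.map iP : Red.bc (AbVar.ext k K) P ⟶ Red.bc (AbVar.ext k K) A'), Category.assoc, hj,
        IsMonHom.one_hom iN]
      exact (IsMonHom.one_hom (f := (F.map iP : Red.bc (AbVar.ext k K) P ⟶ Red.bc (AbVar.ext k K) A'))).symm
    · rw [← cancel_mono (F.map iP : Red.bc (AbVar.ext k K) P ⟶ Red.bc (AbVar.ext k K) A'), Category.assoc,
        Category.assoc, hj, IsMonHom.mul_hom iN,
        IsMonHom.mul_hom (f := (F.map iP : Red.bc (AbVar.ext k K) P ⟶ Red.bc (AbVar.ext k K) A')),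
        tensorHom_comp_tensorHom_assoc, hj]
  haveI : IsClosedImmersion j.left := by
    haveI : IsClosedImmersion (j.left ≫ (F.map iP).left) := by rw [← Over.comp_left, hj]; infer_instance
    exact IsClosedImmersion.of_comp j.left (F.map iP).left
  obtain ⟨H, gH, iH, hiH, hiHc, ⟨t, ht⟩, htriv⟩ := exists_regular_descent j
  haveI := hiH; haveI := hiHc
  haveI : IsClosedImmersion (iH ≫ iP).left := inferInstanceAs (IsClosedImmersion (iH.left ≫ iP.left))
  obtain ⟨C, gC, q, hC1, hC2, hq, hqf, hqs, hqc, hkerq⟩ := exists_av_quotient (iH ≫ iP)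
  haveI := hC1; haveI := hC2; haveI := hq; haveI := hqf; haveI := hqs; haveI := hqc
  let qK : Red.bc (AbVar.ext k K) A' ⟶ Red.bc (AbVar.ext k K) C := F.map q
  haveI : IsMonHom qK := inferInstanceAs (IsMonHom (F.map q))
  haveI : Flat qK.left :=
    MorphismProperty.of_isPullback (P := @Flat) (H19Grp.isPullback_map (AbVar.ext k K) q) ‹_›
  haveI : Surjective qK.left := surjective_map q
  haveI : QuasiCompact qK.left :=
    MorphismProperty.of_isPullback (P := @QuasiCompact) (H19Grp.isPullback_map (AbVar.ext k K) q) ‹_›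
  obtain ⟨tau', htau', -⟩ := H19Grp.existsUnique_desc_over qK tau fun T a b hab => by
    have hd : (a / b) ≫ qK = 1 := by rw [GrpObj.div_comp, hab, div_self']
    obtain ⟨s, hs⟩ := bc_kernel_lift (AbVar.ext k K) hkerq (a / b) hd
    have h3 : (a / b) ≫ tau = 1 := by
      rw [← hs, F.map_comp, ← ht, Category.assoc, Category.assoc, Category.assoc, ← Category.assoc j, hj,
        H19Grp.kernel_comp_eq_one hkerN, MonObj.comp_one, MonObj.comp_one]
    rwa [GrpObj.div_comp, div_eq_one] at h3
  haveI : IsProper (Red.bc (AbVar.ext k K) C).hom := MorphismProperty.pullback_snd _ _ inferInstance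
  haveI : GeometricallyIntegral (Red.bc (AbVar.ext k K) C).hom := MorphismProperty.pullback_snd _ _ inferInstance
  haveI : IsMonHom tau' := H25Rig.isMonHom_of_one_hom _ (by
    rw [← IsMonHom.one_hom (f := qK), Category.assoc, htau', IsMonHom.one_hom tau])
  obtain ⟨β₀, hβ₀, hfac⟩ := h.fac C tau'
  have h2 : (F.map (q ≫ β₀) : Red.bc (AbVar.ext k K) A' ⟶ Red.bc (AbVar.ext k K) A') ≫ tau = tau :=
    fac_lemma (AbVar.ext k K) q β₀ tau tau' tau hfac htau'
  haveI : IsMonHom (F.map (q ≫ β₀) : Red.bc (AbVar.ext k K) A' ⟶ Red.bc (AbVar.ext k K) A') :=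
    inferInstanceAs (IsMonHom (F.map (q ≫ β₀)))
  have h3 : q ≫ β₀ = 𝟙 A' := map_injective (K := K)
    ((eq_of_comp_finite tau (F.map (q ≫ β₀) : Red.bc (AbVar.ext k K) A' ⟶ Red.bc (AbVar.ext k K) A') (𝟙 _)
      (IsMonHom.one_hom _) (Category.comp_id _) (h2.trans (Category.id_comp tau).symm)).trans (F.map_id A').symm)
  have hH : iH = 1 := by
    rw [← cancel_mono iP, MonObj.one_comp]
    calc iH ≫ iP = ((iH ≫ iP) ≫ q) ≫ β₀ := by rw [Category.assoc, h3, Category.comp_id]
      _ = 1 := by rw [H19Grp.kernel_comp_eq_one hkerq, MonObj.one_comp]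
  refine universallyInjective_of_ker tau hkerN ?_
  rintro _ ⟨x, rfl⟩
  have h4 : j.left x = η[Red.bc (AbVar.ext k K) P].left (IsLocalRing.closedPoint K) := htriv hH ⟨x, rfl⟩
  rw [Set.mem_singleton_iff, show iN.left x = (F.map iP).left (j.left x) from
    (congrArg (fun w : N ⟶ Red.bc (AbVar.ext k K) A' => w.left x) hj).symm, h4]
  exact congrArg (fun w : 𝟙_ (Over (Spec (CommRingCat.of K))) ⟶ Red.bc (AbVar.ext k K) A' =>
    w.left (IsLocalRing.closedPoint K)) (IsMonHom.one_hom (f := (F.map iP : Red.bc (AbVar.ext k K) P ⟶ _)))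

end Groth.Agent.H25Chow
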