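import Groth.Agent.H25Chow.Connected
import Groth.Agent.H25Chow.Trace

/-!
# The image of a quotient of a constant abelian variety is purely inseparable
-/

set_option autoImplicit false
set_option linter.style.haveILetI false
set_option linter.unusedSectionVars false
set_option backward.isDefEq.respectTransparency false
set_option synthInstance.maxHeartbeats 400000
set_option maxHeartbeats 1000000
universe u

open CategoryTheory CategoryTheory.Limits MonoidalCategory CartesianMonoidalCategory MonObj GrpObj AlgebraicGeometry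
open Groth.Agent Groth.Agent.H25AbCube

noncomputable section

namespace Groth.Agent.H25Chow

variable {k : Type u} [Field k]

/-- A homomorphism killing no abelian subvariety is finite. -/
theorem isFinite_of_no_abelian {X Y : Over (Spec (CommRingCat.of k))} [GrpObj X] [IsProper X.hom]
    [GeometricallyIntegral X.hom] [GrpObj Y] [IsProper Y.hom] [GeometricallyIntegral Y.hom] (f : X ⟶ Y) [IsMonHom f]
    (h : ∀ (W : Over (Spec (CommRingCat.of k))) [GrpObj W] [IsProper W.hom] [GeometricallyIntegral W.hom]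
      (w : W ⟶ X) [IsMonHom w], w ≫ f = 1 → w = 1) : IsFinite f.left := by
  obtain ⟨Z, gZ, i, hi, hic, hker⟩ := H19Grp.AffineQuotient.exists_kernel f
  haveI := hi; haveI := hic
  haveI : Mono i := Over.mono_of_mono_left _
  haveI : IsProper Z.hom := by rw [← Over.w i]; infer_instance
  obtain ⟨W, gW, _, _, c, Q, gQ, ρ, hc, -, hρ, hQ, hlift⟩ := exists_abelian_part Z
  haveI := hc; haveI := hρ; haveI := hQ
  have hc1 : c ≫ i = 1 := h W (c ≫ i)
    (by rw [Category.assoc, H19Grp.kernel_comp_eq_one hker, MonObj.comp_one])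
  have hmono : Mono ρ := ⟨fun {T} a b hab => by
    obtain ⟨y, hy⟩ := hlift T (a / b) (by rw [GrpObj.div_comp, hab, div_self'])
    have h1 : a / b = 1 := by rw [← cancel_mono i, ← hy, Category.assoc, hc1, MonObj.comp_one, MonObj.one_comp]
    exact div_eq_one.1 h1⟩
  haveI : Mono ρ.left := inferInstanceAs (Mono ((Over.forget _).map ρ))
  haveI : IsSeparated Q.hom := inferInstance
  haveI : IsProper (ρ.left ≫ Q.hom) := by rw [Over.w ρ]; infer_instance
  haveI : IsProper ρ.left := IsProper.of_comp ρ.left Q.hom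
  haveI : IsFinite ρ.left := IsFinite.of_isProper_of_locallyQuasiFinite ρ.left
  haveI : IsFinite Z.hom := by rw [← Over.w ρ]; infer_instance
  obtain ⟨-, hd⟩ := discreteTopology_of_finite Z
  haveI := hd
  haveI : IsProper (f.left ≫ Y.hom) := by rw [Over.w f]; infer_instance
  haveI : IsProper f.left := IsProper.of_comp f.left Y.hom
  let e : Z.left ≅ pullback f.left η[Y].left := (hker.map (Over.forget _)).isoPullback
  haveI : DiscreteTopology ↥(pullback f.left η[Y].left) := e.hom.homeomorph.discreteTopology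
  haveI hN : LocallyQuasiFinite (pullback.snd f.left η[Y].left) := by
    rw [locallyQuasiFinite_iff_isDiscrete_preimage_singleton]
    intro y
    exact ⟨inferInstance⟩
  haveI := H19Grp.ArtinHom.lqf_of_kernel f hN
  exact IsFinite.of_isProper_of_locallyQuasiFinite f.left

variable {K : Type u} [Field K] [Algebra k K]

theorem finite_lemma {A X Y : Over (Spec (CommRingCat.of k))} (lam : A ⟶ X) [IsProper lam.left] (m : X ⟶ Y)
    [IsSeparated m.left] (τ : A ⟶ Y) [IsFinite τ.left] (h : lam ≫ m = τ) : IsFinite lam.left := by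
  haveI : IsFinite (lam.left ≫ m.left) := by rw [← Over.comp_left, h]; infer_instance
  exact IsFinite.of_comp lam.left m.left

/-- The image of a quotient of a constant abelian variety is purely inseparable. -/
theorem universallyInjective_image (hK : AbVar.IsPrimaryExt k K)
    (A : Over (Spec (CommRingCat.of K))) [GrpObj A] [IsProper A.hom] [GeometricallyIntegral A.hom]
    (A₀ : Over (Spec (CommRingCat.of k))) [GrpObj A₀] [IsProper A₀.hom] [GeometricallyIntegral A₀.hom]
    (lam : A ⟶ Red.bc (AbVar.ext k K) A₀) (h : AbVar.IsChowImage k K A A₀ lam)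
    (B : Over (Spec (CommRingCat.of k))) [GrpObj B] [IsProper B.hom] [GeometricallyIntegral B.hom]
    (β : Red.bc (AbVar.ext k K) B ⟶ A) [IsMonHom β] [Surjective β.left] :
    UniversallyInjective lam.left := by
  let F := Over.pullback (AbVar.ext k K)
  haveI := h.isMonHom
  haveI : IsCommMonObj A := isCommMonObj_of_av
  haveI : IsCommMonObj B := isCommMonObj_of_av
  let BK := Red.bc (AbVar.ext k K) B
  haveI : IsProper BK.hom := MorphismProperty.pullback_snd _ _ inferInstance
  haveI : GeometricallyIntegral BK.hom := MorphismProperty.pullback_snd _ _ inferInstance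
  haveI : IsCommMonObj BK := isCommMonObj_of_av
  obtain ⟨Z, gZ, iZ, hiZ, hiZc, hkerZ⟩ := H19Grp.AffineQuotient.exists_kernel β
  haveI := hiZ; haveI := hiZc
  haveI : Mono iZ := Over.mono_of_mono_left _
  haveI : IsCommMonObj Z := H19Quot.AbelianCat.comm_of_mono iZ
  haveI : LocallyOfFiniteType Z.hom := by rw [← Over.w iZ]; infer_instance
  obtain ⟨M, gM, iM, hiM, hiMc, hM1, hM2, hMmax⟩ := exists_maximal_abelian (G := Z)
  haveI := hiM; haveI := hiMc; haveI := hM1; haveI := hM2
  haveI : IsClosedImmersion (iM ≫ iZ).left := inferInstanceAs (IsClosedImmersion (iM.left ≫ iZ.left))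
  obtain ⟨C, gC, iC, hC1, hC2, hC3, hC4, e, he⟩ := exists_descent hK B M (iM ≫ iZ)
  haveI := hC1; haveI := hC2; haveI := hC3
  haveI : Mono iC := Over.mono_of_mono_left _
  haveI : IsFinite iC.left := inferInstance
  obtain ⟨D, gD, iD, hD1, hD2, hD3, hD4, hs, hsf⟩ := exists_complement B C iC
  haveI := hD1; haveI := hD2; haveI := hD3; haveI := hD4
  let s : C ⊗ D ⟶ B := (fst C D ≫ iC) * (snd C D ≫ iD)
  haveI : IsCommMonObj C := isCommMonObj_of_av
  haveI : IsCommMonObj D := isCommMonObj_of_av
  haveI : IsMonHom s := by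
    haveI : IsMonHom (fst C D ≫ iC) := inferInstance
    haveI : IsMonHom (snd C D ≫ iD) := inferInstance
    rw [show s = lift (fst C D ≫ iC) (snd C D ≫ iD) ≫ μ[B] from rfl]
    infer_instance
  haveI : IsProper (C ⊗ D).hom := inferInstanceAs (IsProper (pullback.fst C.hom D.hom ≫ C.hom))
  haveI : GeometricallyIntegral (C ⊗ D).hom := H25Rig.geometricallyIntegral_tensor C D
  let CK := Red.bc (AbVar.ext k K) C
  let DK := Red.bc (AbVar.ext k K) D
  let PK := Red.bc (AbVar.ext k K) (C ⊗ D)
  haveI : IsProper CK.hom := MorphismProperty.pullback_snd _ _ inferInstance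
  haveI : GeometricallyIntegral CK.hom := MorphismProperty.pullback_snd _ _ inferInstance
  haveI : IsProper DK.hom := MorphismProperty.pullback_snd _ _ inferInstance
  haveI : GeometricallyIntegral DK.hom := MorphismProperty.pullback_snd _ _ inferInstance
  haveI : IsProper PK.hom := MorphismProperty.pullback_snd _ _ inferInstance
  haveI : GeometricallyIntegral PK.hom := MorphismProperty.pullback_snd _ _ inferInstance
  haveI : IsCommMonObj PK := isCommMonObj_of_av
  let iCK : CK ⟶ BK := F.map iC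
  let iDK : DK ⟶ BK := F.map iD
  let sK : PK ⟶ BK := F.map s
  let p₁ : PK ⟶ CK := F.map (fst C D)
  let p₂ : PK ⟶ DK := F.map (snd C D)
  haveI : IsMonHom iCK := inferInstanceAs (IsMonHom (F.map iC))
  haveI : IsMonHom iDK := inferInstanceAs (IsMonHom (F.map iD))
  haveI : IsMonHom sK := inferInstanceAs (IsMonHom (F.map s))
  haveI : IsMonHom p₁ := inferInstanceAs (IsMonHom (F.map (fst C D)))
  haveI : IsMonHom p₂ := inferInstanceAs (IsMonHom (F.map (snd C D)))
  haveI : IsFinite s.left := hsf
  haveI : Surjective s.left := hs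
  haveI : IsFinite sK.left := isFinite_map s
  haveI : Surjective sK.left := surjective_map s
  have hsplit : sK = (p₁ ≫ iCK) * (p₂ ≫ iDK) := by
    show F.map s = _
    refine (map_mul (Functor.homMonoidHom F) (fst C D ≫ iC) (snd C D ≫ iD)).trans ?_
    exact congrArg₂ (· * ·) (F.map_comp (fst C D) iC) (F.map_comp (snd C D) iD)
  have hCβ : iCK ≫ β = 1 := by
    rw [show iCK = e.hom ≫ iM ≫ iZ from he.symm, Category.assoc, Category.assoc, H19Grp.kernel_comp_eq_one hkerZ,
      MonObj.comp_one, MonObj.comp_one]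
  let gam : DK ⟶ A := iDK ≫ β
  haveI : Surjective gam.left := by
    haveI : Surjective ((p₂ ≫ gam : PK ⟶ A)).left := by
      have h1 : sK ≫ β = p₂ ≫ gam := by
        rw [hsplit, MonObj.mul_comp, Category.assoc, Category.assoc, hCβ, MonObj.comp_one, _root_.one_mul]
      rw [← h1]
      show Surjective (sK.left ≫ β.left)
      infer_instance
    exact Surjective.of_comp p₂.left gam.left
  haveI : IsFinite gam.left := isFinite_of_no_abelian gam fun W _ _ _ w _ hw => by
    haveI : IsCommMonObj W := isCommMonObj_of_av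
    obtain ⟨z, hz⟩ := H19Grp.kernel_lift hkerZ (w ≫ iDK) (by rw [Category.assoc]; exact hw)
    haveI : IsMonHom z := by
      refine ⟨?_, ?_⟩
      · rw [← cancel_mono iZ, Category.assoc, hz, IsMonHom.one_hom (w ≫ iDK), IsMonHom.one_hom iZ]
      · rw [← cancel_mono iZ, Category.assoc, Category.assoc, hz, IsMonHom.mul_hom (w ≫ iDK), IsMonHom.mul_hom iZ,
          tensorHom_comp_tensorHom_assoc, hz]
    obtain ⟨m, hm⟩ := hMmax W z ‹_›
    let a : W ⟶ CK := m ≫ e.inv
    have ha : a ≫ iCK = w ≫ iDK := by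
      rw [show iCK = e.hom ≫ iM ≫ iZ from he.symm, Category.assoc, Iso.inv_hom_id_assoc, ← hz, ← hm, Category.assoc]
    -- the point `(a⁻¹, w)` of `(C ⊗ D)_K` is killed
    let u : W ⟶ PK :=
      (a⁻¹ ≫ (F.map (lift (𝟙 C) 1) : CK ⟶ PK)) * (w ≫ (F.map (lift 1 (𝟙 D)) : DK ⟶ PK))
    have h₁ : ∀ {Y : Over (Spec (CommRingCat.of k))} [GrpObj Y] (g : C ⊗ D ⟶ Y) [IsMonHom g],
        u ≫ (F.map g : PK ⟶ Red.bc (AbVar.ext k K) Y) =
          (a⁻¹ ≫ (F.map (lift (𝟙 C) 1 ≫ g) : CK ⟶ Red.bc (AbVar.ext k K) Y)) *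
            (w ≫ (F.map (lift 1 (𝟙 D) ≫ g) : DK ⟶ Red.bc (AbVar.ext k K) Y)) := fun {Y} _ g _ => by
      haveI : IsMonHom (F.map g : PK ⟶ Red.bc (AbVar.ext k K) Y) := inferInstanceAs (IsMonHom (F.map g))
      show (_ * _) ≫ (F.map g : PK ⟶ Red.bc (AbVar.ext k K) Y) = _
      rw [MonObj.mul_comp, Category.assoc, Category.assoc, ← F.map_comp, ← F.map_comp]
    have hu1 : u ≫ p₁ = a⁻¹ := by
      refine (h₁ (fst C D)).trans ?_
      rw [lift_fst, lift_fst, show (F.map (1 : D ⟶ C) : DK ⟶ CK) = 1 from map_one (Functor.homMonoidHom F),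
        MonObj.comp_one, _root_.mul_one]
      exact (congrArg (a⁻¹ ≫ ·) (F.map_id C)).trans (Category.comp_id _)
    have hu2 : u ≫ p₂ = w := by
      refine (h₁ (snd C D)).trans ?_
      rw [lift_snd, lift_snd, show (F.map (1 : C ⟶ D) : CK ⟶ DK) = 1 from map_one (Functor.homMonoidHom F),
        MonObj.comp_one, _root_.one_mul]
      exact (congrArg (w ≫ ·) (F.map_id D)).trans (Category.comp_id _)
    have hus : u ≫ sK = 1 ≫ sK := by
      rw [MonObj.one_comp, hsplit, MonObj.comp_mul, ← Category.assoc, ← Category.assoc, hu1, hu2,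
        GrpObj.inv_comp, ha, inv_mul_cancel]
    have hone : ∀ {Y : Over (Spec (CommRingCat.of K))} [GrpObj Y],
        η[W] ≫ (1 : W ⟶ Y) = η[Y] := fun {Y} _ => by
      rw [MonObj.comp_one, Hom.one_def, toUnit_unique (toUnit _) (𝟙 _), Category.id_comp]
    have hu0 : η[W] ≫ u = η[PK] := by
      have ha0 : η[W] ≫ a = η[CK] := by
        haveI : Mono iCK := Over.mono_of_mono_left _
        rw [← cancel_mono iCK, Category.assoc, ha, IsMonHom.one_hom (w ≫ iDK), IsMonHom.one_hom iCK]
      haveI : IsMonHom a := H25Rig.isMonHom_of_one_hom _ ha0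
      haveI : IsMonHom (F.map (lift (𝟙 C) 1) : CK ⟶ PK) := by
        haveI : IsMonHom (1 : C ⟶ D) := H25Rig.isMonHom_of_one_hom _ (MonObj.comp_one _ |>.trans (by
          rw [Hom.one_def, toUnit_unique (toUnit _) (𝟙 _), Category.id_comp]))
        exact inferInstanceAs (IsMonHom (F.map (lift (𝟙 C) 1)))
      haveI : IsMonHom (F.map (lift 1 (𝟙 D)) : DK ⟶ PK) := by
        haveI : IsMonHom (1 : D ⟶ C) := H25Rig.isMonHom_of_one_hom _ (MonObj.comp_one _ |>.trans (by
          rw [Hom.one_def, toUnit_unique (toUnit _) (𝟙 _), Category.id_comp]))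
        exact inferInstanceAs (IsMonHom (F.map (lift 1 (𝟙 D))))
      show η[W] ≫ (_ * _) = _
      rw [MonObj.comp_mul, ← Category.assoc, ← Category.assoc, GrpObj.comp_inv, ha0, IsMonHom.one_hom w,
        GrpObj.inv_comp, IsMonHom.one_hom (F.map (lift (𝟙 C) 1) : CK ⟶ PK),
        IsMonHom.one_hom (F.map (lift 1 (𝟙 D)) : DK ⟶ PK),
        show η[PK] = (1 : _ ⟶ PK) by rw [Hom.one_def, toUnit_unique (toUnit _) (𝟙 _), Category.id_comp],
        inv_one, _root_.one_mul]
    have hu : u = 1 := eq_of_comp_finite sK u 1 hu0 hone hus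
    rw [← hu2, hu, MonObj.one_comp]
  obtain ⟨n, hn, τ, hτ, hgamτ, hτgam⟩ := exists_isogeny_inverse gam
  haveI := hτ
  haveI : IsFinite τ.left := by
    haveI : IsProper τ.left := by
      haveI : IsProper (τ.left ≫ DK.hom) := by rw [Over.w τ]; infer_instance
      exact IsProper.of_comp τ.left DK.hom
    haveI : IsFinite ((𝟙 A) ^ n : A ⟶ A).left := isFinite_pow hn
    exact finite_lemma τ gam ((𝟙 A) ^ n : A ⟶ A) hτgam
  obtain ⟨τ₀, hτ₀, hfac⟩ := h.fac D τ
  let Y := Red.bc (AbVar.ext k K) A₀
  haveI : IsProper Y.hom := MorphismProperty.pullback_snd _ _ inferInstance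
  haveI : IsProper lam.left := by
    haveI : IsProper (lam.left ≫ Y.hom) := by rw [Over.w lam]; infer_instance
    exact IsProper.of_comp lam.left Y.hom
  haveI : IsSeparated (F.map τ₀ : Y ⟶ DK).left := by
    haveI : IsSeparated ((F.map τ₀ : Y ⟶ DK).left ≫ DK.hom) := by rw [Over.w]; infer_instance
    exact IsSeparated.of_comp _ DK.hom
  haveI : IsFinite lam.left := finite_lemma lam (F.map τ₀ : Y ⟶ DK) τ hfac
  obtain ⟨N, gN, iN, hiN, hiNc, hkerN⟩ := H19Grp.AffineQuotient.exists_kernel lam
  haveI := hiN; haveI := hiNc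
  haveI : IsFinite N.hom := isFinite_kernel lam hkerN
  obtain ⟨-, hd⟩ := discreteTopology_of_finite N
  haveI := hd
  haveI : ConnectedSpace ↥(pullback lam.left η[Y].left) := connectedSpace_kernel hK A A₀ lam h
  let e' : N.left ≅ pullback lam.left η[Y].left := (hkerN.map (Over.forget _)).isoPullback
  haveI : ConnectedSpace ↥N.left := e'.inv.homeomorph.surjective.connectedSpace e'.inv.continuous
  haveI : Subsingleton ↥N.left := PreconnectedSpace.trivial_of_discrete
  refine universallyInjective_of_ker lam hkerN ?_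
  rintro _ ⟨x, rfl⟩
  rw [Set.mem_singleton_iff, Subsingleton.elim x (η[N].left (IsLocalRing.closedPoint K))]
  exact congrArg (fun w : 𝟙_ (Over (Spec (CommRingCat.of K))) ⟶ A => w.left (IsLocalRing.closedPoint K))
    (IsMonHom.one_hom iN)

end Groth.Agent.H25Chow
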