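import Groth.Agent.H25Chow.Maximal
import Groth.Agent.H19Grp.Reduced

/-!
# The reduced subscheme of a connected proper group scheme is an abelian variety
-/

set_option autoImplicit false
set_option linter.style.haveILetI false
set_option linter.unusedSectionVars false
set_option backward.isDefEq.respectTransparency false
set_option synthInstance.maxHeartbeats 400000
set_option maxHeartbeats 1000000
universe u

open CategoryTheory CategoryTheory.Limits MonoidalCategory CartesianMonoidalCategory MonObj GrpObj AlgebraicGeometry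
open Groth.Agent Groth.Agent.H25AbCube

noncomputable section

namespace Groth.Agent.H25Chow

variable {k : Type u} [Field k]

/-- Transport of a group structure along an isomorphism over the base. -/
theorem exists_grpObj_of_iso {S : Scheme.{u}} {C X Y : Over S} [GrpObj C] [GrpObj Y] (c : C ⟶ Y) [IsMonHom c] [Mono c]
    (j : X ⟶ Y) (e : C ≅ X) (he : e.hom ≫ j = c) : ∃ _ : GrpObj X, IsMonHom j := by
  have he' : e.inv ≫ c = j := by rw [← he, Iso.inv_hom_id_assoc]
  haveI : Mono j := by rw [← he']; exact mono_comp _ _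
  refine H19Grp.exists_grpObj_of_mono Y j (η[C] ≫ e.hom) ?_ ((e.inv ⊗ₘ e.inv) ≫ μ[C] ≫ e.hom) ?_
    (e.inv ≫ ι[C] ≫ e.hom) ?_
  · rw [Category.assoc, he, IsMonHom.one_hom c]
  · rw [Category.assoc, Category.assoc, he, IsMonHom.mul_hom c, tensorHom_comp_tensorHom_assoc, he']
  · rw [Category.assoc, Category.assoc, he, ← he', Category.assoc]
    congr 1
    rw [show ι[C] = (𝟙 C)⁻¹ by rw [Hom.inv_def, Category.id_comp], GrpObj.inv_comp, Category.id_comp, Hom.inv_def]

/-- The reduced subscheme of a connected proper group scheme. -/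
theorem exists_grpObj_reduced (Y : Over (Spec (CommRingCat.of k))) [GrpObj Y] [IsProper Y.hom] [ConnectedSpace ↥Y.left]
    (Yr : Scheme.{u}) (j : Yr ⟶ Y.left) [IsClosedImmersion j] [Surjective j] [IsReduced Yr] :
    GeometricallyIntegral (j ≫ Y.hom) ∧
      ∃ _ : GrpObj (Over.mk (j ≫ Y.hom)), IsMonHom (Over.homMk j rfl : Over.mk (j ≫ Y.hom) ⟶ Y) := by
  obtain ⟨C, gC, hC1, hC2, c, Q, gQ, ρ, hc, hcc, hρ, hQ, hlift⟩ := exists_abelian_part Y
  haveI := hC1; haveI := hC2; haveI := hc; haveI := hcc; haveI := hρ; haveI := hQ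
  haveI : Mono c := Over.mono_of_mono_left _
  haveI : IsIntegral C.left := GeometricallyIntegral.isIntegral_of_subsingleton C.hom
  obtain ⟨-, hd⟩ := discreteTopology_of_finite Q
  haveI := hd
  have hρ0 : ∀ o : Y.left, ρ.left o = η[Q].left (IsLocalRing.closedPoint k) := fun o => by
    have he : ρ.left (η[Y].left (IsLocalRing.closedPoint k)) = η[Q].left (IsLocalRing.closedPoint k) :=
      congrArg (fun w : 𝟙_ (Over (Spec (CommRingCat.of k))) ⟶ Q => w.left (IsLocalRing.closedPoint k))
        (IsMonHom.one_hom ρ)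
    exact he ▸ (isPreconnected_range ρ.left.continuous).subsingleton ⟨o, rfl⟩ ⟨_, rfl⟩
  haveI : IsClosedImmersion η[Q].left := isClosedImmersion_one Q
  let x : Over.mk (j ≫ Y.hom) ⟶ Y := Over.homMk j rfl
  let q : pullback (x ≫ ρ).left η[Q].left ⟶ Yr := pullback.fst _ _
  haveI : IsClosedImmersion q := MorphismProperty.pullback_fst _ _ inferInstance
  haveI : Surjective q := ⟨fun o => by
    obtain ⟨w, hw, -⟩ := Scheme.Pullback.exists_preimage_pullback o (IsLocalRing.closedPoint k)
      (f := (x ≫ ρ).left) (g := η[Q].left) (hρ0 (j o))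
    exact ⟨w, hw⟩⟩
  haveI : IsIso q := isIso_of_isClosedImmersion_of_surjective q
  have hlift' : (inv q ≫ pullback.snd _ _) ≫ η[Q].left = (x ≫ ρ).left := by
    rw [Category.assoc, ← pullback.condition, IsIso.inv_hom_id_assoc]
  have hz : inv q ≫ pullback.snd (x ≫ ρ).left η[Q].left = j ≫ Y.hom := by
    have h2 := congrArg (fun w : Yr ⟶ Q.left => w ≫ Q.hom) hlift'
    rw [show (x ≫ ρ).left ≫ Q.hom = j ≫ Y.hom from Over.w (x ≫ ρ), Category.assoc, Over.w η[Q]] at h2
    exact ((Category.comp_id _).symm.trans h2)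
  have hxρ : x ≫ ρ = 1 :=
    Over.OverMorphism.ext ((hlift'.symm.trans (congrArg (· ≫ η[Q].left) hz)).trans (H19Grp.one_left (Over.mk (j ≫ Y.hom))).symm)
  obtain ⟨y, hy⟩ := hlift _ x hxρ
  have hy' : y.left ≫ c.left = j := congrArg (fun w : Over.mk (j ≫ Y.hom) ⟶ Y => w.left) hy
  haveI : IsClosedImmersion y.left := by
    haveI : IsClosedImmersion (y.left ≫ c.left) := by rw [hy']; infer_instance
    exact IsClosedImmersion.of_comp y.left c.left
  haveI : Surjective y.left := ⟨fun o => by
    obtain ⟨w, hw⟩ := j.surjective (c.left o)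
    exact ⟨w, c.left.isClosedEmbedding.injective ((congrArg (fun m : Yr ⟶ Y.left => m w) hy').trans hw)⟩⟩
  haveI : IsIso y.left := isIso_of_isClosedImmersion_of_surjective y.left
  haveI : IsIso ((Over.forget _).map y) := ‹IsIso y.left›
  haveI : IsIso y := isIso_of_reflects_iso y (Over.forget _)
  refine ⟨?_, exists_grpObj_of_iso c x (asIso y).symm (by rw [Iso.symm_hom, asIso_inv, IsIso.inv_comp_eq, hy])⟩
  rw [show j ≫ Y.hom = y.left ≫ C.hom by rw [Over.w y]; rfl]
  exact (MorphismProperty.cancel_left_of_respectsIso @GeometricallyIntegral y.left C.hom).2 inferInstance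

end Groth.Agent.H25Chow
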