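import Groth.Agent.H25AbCube.Torsion
import Groth.Agent.H25AbCube.MulN
import Groth.Agent.H25Chow.Primary
import Groth.Agent.H17.Image

/-!
# Torsion points and their conjugates
-/

set_option autoImplicit false
set_option linter.style.haveILetI false
set_option linter.unusedSectionVars false
set_option backward.isDefEq.respectTransparency false
universe u

open CategoryTheory CategoryTheory.Limits MonoidalCategory CartesianMonoidalCategory MonObj GrpObj AlgebraicGeometry
open Groth.Agent Groth.Agent.H25AbCube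

noncomputable section

namespace Groth.Agent.H25Chow

variable {k : Type u} [Field k] {A : Over (Spec (CommRingCat.of k))} [GrpObj A] [IsProper A.hom]
  [GeometricallyIntegral A.hom] [IsCommMonObj A]

/-- A point of the kernel of an invertible multiplication is the image of a separable point, and all geometric points
over it factor through that point. -/
theorem exists_separable_point {n : ℕ} (hn : (n : k) ≠ 0) {Ω : Type u} [Field Ω] [Algebra k Ω]
    (a : Spec (CommRingCat.of Ω) ⟶ A.left)
    (ha : a ≫ A.hom = Spec.map (CommRingCat.ofHom (algebraMap k Ω)))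
    (htor : a ≫ ((𝟙 A) ^ n : A ⟶ A).left = a ≫ A.hom ≫ η[A].left) :
    ∃ (L : Type u) (_ : Field L) (_ : Algebra k L) (_ : Module.Finite k L) (_ : Algebra.IsSeparable k L)
      (σ : Spec (CommRingCat.of L) ⟶ A.left),
      σ ≫ A.hom = Spec.map (CommRingCat.ofHom (algebraMap k L)) ∧
      ∀ {Ω' : Type u} [Field Ω'] [Algebra k Ω'] (a' : Spec (CommRingCat.of Ω') ⟶ A.left),
        a' ≫ A.hom = Spec.map (CommRingCat.ofHom (algebraMap k Ω')) →
        a' (IsLocalRing.closedPoint Ω') = a (IsLocalRing.closedPoint Ω) →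
        ∃ φ : L →ₐ[k] Ω', a' = Spec.map (CommRingCat.ofHom φ.toRingHom) ≫ σ := by
  classical
  have hn0 : 0 < n := Nat.pos_of_ne_zero fun h => hn (by rw [h, Nat.cast_zero])
  haveI := isFinite_pow (A := A) hn0
  haveI : Subsingleton (𝟙_ (Over (Spec (CommRingCat.of k)))).left := inferInstanceAs (Subsingleton (PrimeSpectrum k))
  haveI hη : IsClosedImmersion η[A].left := isClosedImmersion_of_comp_eq_id _ _ (Over.w η[A])
  let φn : A ⟶ A := (𝟙 A) ^ n
  let q := pullback.snd φn.left η[A].left
  let Z := pullback φn.left η[A].left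
  haveI : Etale φn.left := by
    have := H19Grp.etale_zpow_field' A (n : ℤ) (by rwa [Int.cast_natCast])
    rwa [zpow_natCast] at this
  haveI : Etale q := MorphismProperty.pullback_snd _ _ inferInstance
  haveI : IsFinite q := inferInstance
  haveI : IsAffine (𝟙_ (Over (Spec (CommRingCat.of k)))).left :=
    inferInstanceAs (IsAffine (Spec (CommRingCat.of k)))
  haveI : IsAffine Z := isAffine_of_isAffineHom q
  let C : Type u := Γ(Z, ⊤)
  let φC : CommRingCat.of k ⟶ Γ(Z, ⊤) := Spec.preimage (Z.isoSpec.inv ≫ q)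
  letI : Algebra k C := φC.hom.toAlgebra
  have hC : Z.isoSpec.inv ≫ q = Spec.map (CommRingCat.ofHom (algebraMap k C)) := (Spec.map_preimage _).symm
  haveI : IsFinite (Spec.map (CommRingCat.ofHom (algebraMap k C))) := hC ▸ inferInstance
  haveI : Etale (Spec.map (CommRingCat.ofHom (algebraMap k C))) := by
    rw [← hC]; exact MorphismProperty.RespectsIso.precomp @Etale Z.isoSpec.inv q inferInstance
  haveI : Module.Finite k C := RingHom.finite_algebraMap.1 ((IsFinite.SpecMap_iff _).1 ‹_›)
  haveI : Algebra.Etale k C := RingHom.etale_algebraMap.1 (HasRingHomProperty.Spec_iff.1 ‹Etale (Spec.map (CommRingCat.ofHom (algebraMap k C)))›)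
  -- points of `A` killed by `n` and lying over the same point
  have hlift : ∀ {Ω' : Type u} [Field Ω'] [Algebra k Ω'] (a' : Spec (CommRingCat.of Ω') ⟶ A.left),
      a' ≫ A.hom = Spec.map (CommRingCat.ofHom (algebraMap k Ω')) →
      a' (IsLocalRing.closedPoint Ω') ∈ Set.range (pullback.fst φn.left η[A].left) →
      ∃ ψ : C →ₐ[k] Ω', a' = Spec.map (CommRingCat.ofHom ψ.toRingHom) ≫ Z.isoSpec.inv ≫ pullback.fst φn.left η[A].left := by
    intro Ω' _ _ a' ha' hr
    obtain ⟨t, ht⟩ := H17.exists_lift_of_range_subset a' (pullback.fst φn.left η[A].left) (by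
      rintro _ ⟨z, rfl⟩
      rwa [Subsingleton.elim (α := PrimeSpectrum Ω') z (IsLocalRing.closedPoint Ω')])
    let ψ₀ := Spec.preimage (t ≫ Z.isoSpec.hom : Spec (CommRingCat.of Ω') ⟶ Spec Γ(Z, ⊤))
    have hqt : t ≫ q = Spec.map (CommRingCat.ofHom (algebraMap k Ω')) := by
      rw [← ha', ← ht, Category.assoc]
      congr 1
      rw [← Over.w φn, reassoc_of% (pullback.condition (f := φn.left) (g := η[A].left)), Over.w η[A]]
      exact (Category.comp_id _).symm
    have hψ : ∀ c, ψ₀.hom (algebraMap k C c) = algebraMap k Ω' c := by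
      have : Spec.map ψ₀ ≫ Spec.map (CommRingCat.ofHom (algebraMap k C)) =
          Spec.map (CommRingCat.ofHom (algebraMap k Ω')) := by
        rw [Spec.map_preimage, Category.assoc, ← hC, Iso.hom_inv_id_assoc, hqt]
      rw [← Spec.map_comp] at this
      intro c
      exact ConcreteCategory.congr_hom (Spec.map_injective this) c
    refine ⟨{ ψ₀.hom with commutes' := hψ }, ?_⟩
    have hsp : Spec.map (CommRingCat.ofHom ({ ψ₀.hom with commutes' := hψ } : C →ₐ[k] Ω').toRingHom) =
        t ≫ Z.isoSpec.hom := Spec.map_preimage _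
    rw [hsp, Category.assoc, Iso.hom_inv_id_assoc, ht]
  let a₀ : Spec (CommRingCat.of Ω) ⟶ Z := pullback.lift a (a ≫ A.hom) (by rw [Category.assoc]; exact htor)
  have ha0 : a (IsLocalRing.closedPoint Ω) ∈ Set.range (pullback.fst φn.left η[A].left) :=
    ⟨a₀ (IsLocalRing.closedPoint Ω), by rw [← Scheme.Hom.comp_apply, pullback.lift_fst]⟩
  obtain ⟨ψ, hψa⟩ := hlift a ha ha0
  let m : Ideal C := RingHom.ker ψ
  haveI : m.IsPrime := RingHom.ker_isPrime _
  haveI : IsArtinianRing C := IsArtinianRing.of_finite k C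
  haveI : m.IsMaximal := IsArtinianRing.isMaximal_of_isPrime m
  letI : Field (C ⧸ m) := Ideal.Quotient.field m
  haveI : Module.Finite k (C ⧸ m) := Module.Finite.of_surjective (Ideal.Quotient.mkₐ k m).toLinearMap Ideal.Quotient.mk_surjective
  haveI : Algebra.FormallyUnramified k (C ⧸ m) :=
    Algebra.FormallyUnramified.of_surjective (Ideal.Quotient.mkₐ k m) Ideal.Quotient.mk_surjective
  haveI : Algebra.EssFiniteType k (C ⧸ m) := inferInstance
  haveI : Algebra.IsSeparable k (C ⧸ m) := Algebra.FormallyUnramified.isSeparable k (C ⧸ m)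
  let j := Z.isoSpec.inv ≫ pullback.fst φn.left η[A].left
  have hj : j ≫ A.hom = Spec.map (CommRingCat.ofHom (algebraMap k C)) := by
    rw [← hC, Category.assoc]
    congr 1
    rw [← Over.w φn, reassoc_of% (pullback.condition (f := φn.left) (g := η[A].left)), Over.w η[A]]
    exact Category.comp_id _
  refine ⟨C ⧸ m, inferInstance, inferInstance, inferInstance, inferInstance,
    Spec.map (CommRingCat.ofHom (Ideal.Quotient.mk m)) ≫ j, ?_, fun {Ω'} _ _ a' ha' hpt => ?_⟩
  · rw [Category.assoc, hj, ← Spec.map_comp]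
    rfl
  · obtain ⟨ψ', hψ'⟩ := hlift a' ha' (hpt ▸ ha0)
    have hker : m ≤ RingHom.ker ψ' := by
      have h1 : j ((Spec.map (CommRingCat.ofHom ψ'.toRingHom)) (IsLocalRing.closedPoint Ω')) =
          j ((Spec.map (CommRingCat.ofHom ψ.toRingHom)) (IsLocalRing.closedPoint Ω)) := by
        show (Spec.map (CommRingCat.ofHom ψ'.toRingHom) ≫ j) (IsLocalRing.closedPoint Ω') =
          (Spec.map (CommRingCat.ofHom ψ.toRingHom) ≫ j) (IsLocalRing.closedPoint Ω)
        rw [← hψ', ← hψa, hpt]
      haveI : IsClosedImmersion (pullback.fst φn.left η[A].left) := inferInstance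
      haveI : IsClosedImmersion j := inferInstance
      have h2 := congrArg PrimeSpectrum.asIdeal (j.isClosedEmbedding.injective h1)
      intro c hc
      have h3 : c ∈ ((Spec.map (CommRingCat.ofHom ψ.toRingHom)) (IsLocalRing.closedPoint Ω)).asIdeal := by
        show ψ c ∈ IsLocalRing.maximalIdeal Ω
        rw [show ψ c = 0 from hc]; exact zero_mem _
      rw [← h2] at h3
      show ψ' c = 0
      have h4 : ψ' c ∈ IsLocalRing.maximalIdeal Ω' := h3
      rwa [IsLocalRing.maximalIdeal_eq_bot, Ideal.mem_bot] at h4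
    refine ⟨Ideal.Quotient.liftₐ m ψ' hker, ?_⟩
    rw [hψ', ← Category.assoc (Spec.map (CommRingCat.ofHom (Ideal.Quotient.liftₐ m ψ' hker).toRingHom)),
      ← Spec.map_comp]
    rfl

end Groth.Agent.H25Chow
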